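import Mathlib

/-!
# Finiteness of torsion and cotorsion of abelian groups
-/

set_option autoImplicit false

namespace Groth.Agent.H05EGA4.EtCl.Fin

/-- An abelian group has finite `n`-torsion and finite `n`-cotorsion. -/
def NFinite (A : Type*) [AddCommGroup A] (n : ℕ) : Prop :=
  Finite (nsmulAddMonoidHom n : A →+ A).ker ∧ Finite (A ⧸ (nsmulAddMonoidHom n : A →+ A).range)

theorem finite_of_fg_killed {A : Type*} [AddCommGroup A] [AddGroup.FG A] (n : ℕ) (hn : 0 < n)
    (h : ∀ a : A, n • a = 0) : Finite A :=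
  AddCommGroup.finite_of_fg_isAddTorsion A fun a => isOfFinAddOrder_iff_nsmul_eq_zero.2 ⟨n, hn, h a⟩

/-- If the kernel of a map to a finitely generated group is divisible by `n`, the cotorsion is finite. -/
theorem finite_quot_of_divisible_ker {A B : Type*} [AddCommGroup A] [AddCommGroup B] [Module.Finite ℤ B]
    (φ : A →+ B) (n : ℕ) (hn : 0 < n) (hker : ∀ a, φ a = 0 → ∃ b, n • b = a) :
    Finite (A ⧸ (nsmulAddMonoidHom n : A →+ A).range) := by
  haveI : Module.Finite ℤ φ.range := Module.Finite.iff_fg.2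
    ((IsNoetherian.noetherian (AddSubgroup.toIntSubmodule φ.range)))
  haveI : AddGroup.FG φ.range := Module.Finite.iff_addGroup_fg.mp inferInstance
  let R : AddSubgroup φ.range := (nsmulAddMonoidHom n : φ.range →+ φ.range).range
  haveI : Finite (φ.range ⧸ R) := by
    refine finite_of_fg_killed n hn fun a => ?_
    induction a using QuotientAddGroup.induction_on with
    | H z => exact (QuotientAddGroup.eq_zero_iff (n • z)).2 ⟨z, rfl⟩
  let ψ : A ⧸ (nsmulAddMonoidHom n : A →+ A).range →+ φ.range ⧸ R :=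
    QuotientAddGroup.map _ R φ.rangeRestrict fun a ⟨b, hb⟩ => ⟨φ.rangeRestrict b, by
      rw [← hb]; exact (map_nsmul φ.rangeRestrict n b).symm⟩
  refine Finite.of_injective ψ ((injective_iff_map_eq_zero ψ).2 fun a => ?_)
  induction a using QuotientAddGroup.induction_on with
  | H a =>
    intro ha
    obtain ⟨⟨_, b, rfl⟩, hb⟩ := (QuotientAddGroup.eq_zero_iff _).1 ha
    have hb' : n • φ b = φ a := congrArg Subtype.val hb
    obtain ⟨c, hc⟩ := hker (a - n • b) (by rw [map_sub, map_nsmul, hb', sub_self])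
    exact (QuotientAddGroup.eq_zero_iff a).2 ⟨b + c, by
      show n • (b + c) = a
      rw [nsmul_add, hc]; abel⟩

/-- Torsion and cotorsion pass to quotients by finitely generated subgroups. -/
theorem NFinite.of_surjective {A B : Type*} [AddCommGroup A] [AddCommGroup B] (φ : A →+ B)
    (hφ : Function.Surjective φ) (hfg : φ.ker.FG) {n : ℕ} (hn : 0 < n) (h : NFinite A n) : NFinite B n := by
  obtain ⟨h1, h2⟩ := h
  refine ⟨?_, ?_⟩
  · haveI : AddGroup.FG φ.ker := (AddGroup.fg_iff_addSubgroup_fg _).2 hfg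
    let R : AddSubgroup φ.ker := (nsmulAddMonoidHom n : φ.ker →+ φ.ker).range
    haveI : Finite (φ.ker ⧸ R) := by
      refine finite_of_fg_killed n hn fun a => ?_
      induction a using QuotientAddGroup.induction_on with
      | H z => exact (QuotientAddGroup.eq_zero_iff (n • z)).2 ⟨z, rfl⟩
    haveI := h1
    choose s hs using hφ
    have hmem : ∀ b : (nsmulAddMonoidHom n : B →+ B).ker, n • s b.1 ∈ φ.ker := fun b => by
      show φ (n • s b.1) = 0
      rw [map_nsmul, hs]; exact b.2
    let γ : (nsmulAddMonoidHom n : B →+ B).ker → φ.ker ⧸ R := fun b => QuotientAddGroup.mk ⟨n • s b.1, hmem b⟩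
    have hfib : ∀ z, Finite {b // γ b = z} := fun z => by
      by_cases hz : ∃ b, γ b = z
      · obtain ⟨b₀, hb₀⟩ := hz
        have key : ∀ b : {b // γ b = z}, ∃ a : (nsmulAddMonoidHom n : A →+ A).ker, φ a.1 = b.1.1 - b₀.1 := fun b => by
          have h3 : γ b₀ = γ b.1 := hb₀.trans b.2.symm
          obtain ⟨w, hw⟩ := QuotientAddGroup.eq.1 h3
          have hw' : n • (w : A) = -(n • s b₀.1) + n • s b.1.1 := congrArg Subtype.val hw
          refine ⟨⟨s b.1.1 - s b₀.1 - w, ?_⟩, ?_⟩
          · show n • (s b.1.1 - s b₀.1 - (w : A)) = 0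
            rw [nsmul_sub, nsmul_sub, hw']; abel
          · rw [map_sub, map_sub, hs, hs, show φ w = 0 from w.2, sub_zero]
        choose a ha using key
        refine Finite.of_injective a fun b c hbc => ?_
        have := (ha b).symm.trans ((congrArg (fun t : (nsmulAddMonoidHom n : A →+ A).ker => φ t.1) hbc).trans (ha c))
        exact Subtype.ext (Subtype.ext (sub_left_injective this))
      · exact Finite.of_injective (β := Empty) (fun b => (hz ⟨b.1, b.2⟩).elim) fun b => (hz ⟨b.1, b.2⟩).elim
    haveI := hfib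
    exact Finite.of_equiv _ (Equiv.sigmaFiberEquiv γ)
  · haveI := h2
    refine Finite.of_surjective
      (QuotientAddGroup.map (nsmulAddMonoidHom n : A →+ A).range (nsmulAddMonoidHom n : B →+ B).range φ
        fun a ha => by
          obtain ⟨c, hc⟩ := AddMonoidHom.mem_range.1 ha
          exact AddSubgroup.mem_comap.2 (AddMonoidHom.mem_range.2 ⟨φ c, by rw [← hc]; exact (map_nsmul φ n c).symm⟩)) fun b => ?_
    induction b using QuotientAddGroup.induction_on with
    | H b =>
      obtain ⟨a, rfl⟩ := hφ b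
      exact ⟨QuotientAddGroup.mk a, rfl⟩

theorem NFinite.congr {A B : Type*} [AddCommGroup A] [AddCommGroup B] (e : A ≃+ B) {n : ℕ} (hn : 0 < n)
    (h : NFinite A n) : NFinite B n :=
  h.of_surjective e.toAddMonoidHom e.surjective (by
    rw [show e.toAddMonoidHom.ker = ⊥ from (AddMonoidHom.ker_eq_bot_iff _).2 e.injective]
    exact ⟨∅, by simp⟩) hn

/-- A subgroup embedded in a finitely generated group is finitely generated. -/
theorem fg_of_injective_to_fg {P G : Type*} [AddCommGroup P] [AddCommGroup G] [Module.Finite ℤ G]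
    (S : AddSubgroup (P × G)) (hinj : ∀ x ∈ S, x.2 = 0 → x.1 = 0) :
    (S.map (AddMonoidHom.fst P G)).FG := by
  let g : S →+ G := (AddMonoidHom.snd P G).comp S.subtype
  have hg : Function.Injective g := (injective_iff_map_eq_zero g).2 fun x hx =>
    Subtype.ext (Prod.ext (hinj x.1 x.2 hx) hx)
  haveI : Module.Finite ℤ S := Module.Finite.of_injective g.toIntLinearMap hg
  haveI : AddGroup.FG S := Module.Finite.iff_addGroup_fg.mp inferInstance
  obtain ⟨T, hT⟩ := (AddGroup.fg_iff_addSubgroup_fg S).1 inferInstance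
  classical
  exact ⟨T.image (AddMonoidHom.fst P G), by rw [Finset.coe_image, ← AddMonoidHom.map_closure, hT]⟩

end Groth.Agent.H05EGA4.EtCl.Fin
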