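import Groth.Agent.H1DFun.FinLCSplit
import Groth.Agent.H15Site.IntDesc.PushH

/-!
# Finiteness of étale cohomology: exact sequences and constant coefficients
-/

set_option autoImplicit false
set_option backward.isDefEq.respectTransparency false
set_option backward.isDefEq.respectTransparency.types false

universe u

open CategoryTheory CategoryTheory.Limits AlgebraicGeometry Opposite Abelian

namespace Groth.Agent.H05EGA4.EtCl.Fin

open scoped Groth.Agent.H18Et

theorem finite_of_exact {A B C : Type*} [AddCommGroup A] [AddCommGroup B] [AddCommGroup C] (f : A →+ B) (g : B →+ C)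
    (hex : ∀ b, g b = 0 → ∃ a, f a = b) [Finite A] [Finite C] : Finite B := by
  haveI : Finite g.ker := Finite.of_surjective
    (fun a : {a : A // g (f a) = 0} => (⟨f a.1, a.2⟩ : g.ker))
    fun b => by
      obtain ⟨a, ha⟩ := hex b.1 b.2
      exact ⟨⟨a, by rw [ha]; exact b.2⟩, Subtype.ext ha⟩
  haveI : Finite (B ⧸ g.ker) := Finite.of_equiv _ (QuotientAddGroup.quotientKerEquivRange g).symm.toEquiv
  exact Finite.of_equiv _ (AddSubgroup.addGroupEquivQuotientProdAddSubgroup (s := g.ker)).symm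

variable {X : Scheme.{u}}

theorem finite_H_of_iso {F G : EtCoh.Ab X} (e : F ≅ G) (n : ℕ) (h : Finite (EtCoh.H X G n)) :
    Finite (EtCoh.H X F n) :=
  Finite.of_injective (β := EtCoh.H X G n) _
    ((Sheaf.functorH _ n).mapIso e).addCommGroupIsoToAddEquiv.injective

section SES

variable {S : ShortComplex (EtCoh.Ab X)} (hS : S.ShortExact)

include hS in
theorem finite_H_mid (n : ℕ) (h1 : Finite (EtCoh.H X S.X₁ n)) (h3 : Finite (EtCoh.H X S.X₃ n)) :
    Finite (EtCoh.H X S.X₂ n) := by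
  haveI := h1; haveI := h3
  exact finite_of_exact ((Ext.mk₀ S.f).postcomp _ (add_zero n)) ((Ext.mk₀ S.g).postcomp _ (add_zero n))
    fun b hb => Ext.covariant_sequence_exact₂ _ hS b hb

include hS in
theorem finite_H_left (n : ℕ) (h3 : Finite (EtCoh.H X S.X₃ n)) (h2 : Finite (EtCoh.H X S.X₂ (n + 1))) :
    Finite (EtCoh.H X S.X₁ (n + 1)) := by
  haveI := h3; haveI := h2
  exact finite_of_exact (hS.extClass.postcomp _ rfl) ((Ext.mk₀ S.f).postcomp _ (add_zero _))
    fun b hb => Ext.covariant_sequence_exact₁ _ hS b hb rfl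

include hS in
theorem finite_H_right (n : ℕ) (h2 : Finite (EtCoh.H X S.X₂ n)) (h1 : Finite (EtCoh.H X S.X₁ (n + 1))) :
    Finite (EtCoh.H X S.X₃ n) := by
  haveI := h2; haveI := h1
  exact finite_of_exact ((Ext.mk₀ S.g).postcomp _ (add_zero n)) (hS.extClass.postcomp _ rfl)
    fun b hb => Ext.covariant_sequence_exact₃ _ hS b rfl hb

end SES

/-- Cohomology in degree zero is left exact. -/
theorem injective_H_zero_of_mono {F G : EtCoh.Ab X} (f : F ⟶ G) [Mono f] :
    Function.Injective (fun x : EtCoh.H X F 0 => x.comp (Ext.mk₀ f) (add_zero 0)) := by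
  intro a b hab
  obtain ⟨φ, rfl⟩ := (Ext.mk₀_bijective _ _).2 a
  obtain ⟨ψ, rfl⟩ := (Ext.mk₀_bijective _ _).2 b
  simp only [Ext.mk₀_comp_mk₀] at hab
  rw [(cancel_mono f).1 ((Ext.mk₀_bijective _ _).1 hab)]

theorem finite_H_zero_of_mono {F G : EtCoh.Ab X} (f : F ⟶ G) [Mono f] (h : Finite (EtCoh.H X G 0)) :
    Finite (EtCoh.H X F 0) := by
  haveI := h
  exact Finite.of_injective _ (injective_H_zero_of_mono f)

theorem finite_H_biproduct {m : ℕ} (K : Fin m → EtCoh.Ab X) (n : ℕ) (h : ∀ i, Finite (EtCoh.H X (K i) n)) :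
    Finite (EtCoh.H X (⨁ K) n) := by
  haveI := h
  refine Finite.of_injective (fun x i => Sheaf.H.map (biproduct.π K i) n x : EtCoh.H X (⨁ K) n → ∀ i, EtCoh.H X (K i) n)
    fun a b hab => ?_
  let φ : ((⨁ K) ⟶ ⨁ K) →+ EtCoh.H X (⨁ K) n →+ EtCoh.H X (⨁ K) n :=
    AddMonoidHom.mk' (fun g => (Ext.mk₀ g).postcomp _ (add_zero n)) fun g g' => AddMonoidHom.ext fun x => by
      show x.comp (Ext.mk₀ (g + g')) (add_zero n) = x.comp (Ext.mk₀ g) (add_zero n) + x.comp (Ext.mk₀ g') (add_zero n)
      rw [Ext.mk₀_add, Ext.comp_add]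
  have key : ∀ x : EtCoh.H X (⨁ K) n,
      x = ∑ i, Sheaf.H.map (biproduct.ι K i) n (Sheaf.H.map (biproduct.π K i) n x) := fun x => by
    have ht := DFunLike.congr_fun (congrArg φ (biproduct.total (f := K))) x
    rw [map_sum, AddMonoidHom.finset_sum_apply] at ht
    refine ((Ext.comp_mk₀_id x).symm.trans ht.symm).trans (Finset.sum_congr rfl fun i _ => ?_)
    show x.comp (Ext.mk₀ (biproduct.π K i ≫ biproduct.ι K i)) (add_zero n) = _
    rw [← Ext.mk₀_comp_mk₀, ← Ext.comp_assoc_of_third_deg_zero]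
    rfl
  rw [key a, key b]
  exact Finset.sum_congr rfl fun i _ => congrArg _ (congrFun hab i)

theorem finite_H_push {Y : Scheme.{u}} (f : Y ⟶ X) [IsIntegralHom f] (G : EtCoh.Ab Y) (n : ℕ)
    (h : Finite (EtCoh.H Y G n)) : Finite (EtCoh.H X ((EtCoh.push f).obj G) n) := by
  obtain ⟨e⟩ := H15Site.IntDesc.nonempty_H_push f G n
  exact Finite.of_injective (β := EtCoh.H Y G n) _ e.addCommGroupIsoToAddEquiv.injective

theorem subsingleton_H_of_id_eq_zero {F : EtCoh.Ab X} (h : 𝟙 F = 0) (n : ℕ) : Subsingleton (EtCoh.H X F n) :=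
  subsingleton_of_forall_eq 0 fun x => by rw [← Ext.comp_mk₀_id x, h, Ext.mk₀_zero, Ext.comp_zero]

/-- The map of constant sheaves. -/
noncomputable def constMap {M M' : Type} [AddCommGroup M] [AddCommGroup M'] (f : M →+ M') :
    EtCoh.const X M ⟶ EtCoh.const X M' :=
  (constantSheaf X.smallEtaleTopology AddCommGrpCat.{u + 1}).map
    (AddCommGrpCat.ofHom ((AddEquiv.ulift.symm.toAddMonoidHom.comp f).comp AddEquiv.ulift.toAddMonoidHom))

theorem constMap_shortExact {A B C : Type} [AddCommGroup A] [AddCommGroup B] [AddCommGroup C] (f : A →+ B)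
    (g : B →+ C) (hf : Function.Injective f) (hg : Function.Surjective g) (hfg : Function.Exact f g) :
    ∃ w : constMap (X := X) f ≫ constMap g = 0,
      (ShortComplex.mk (constMap (X := X) f) (constMap g) w).ShortExact := by
  let a := AddCommGrpCat.ofHom ((AddEquiv.ulift.{0, u + 1}.symm.toAddMonoidHom.comp f).comp AddEquiv.ulift.toAddMonoidHom)
  let b := AddCommGrpCat.ofHom ((AddEquiv.ulift.{0, u + 1}.symm.toAddMonoidHom.comp g).comp AddEquiv.ulift.toAddMonoidHom)
  have w0 : a ≫ b = 0 := by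
    ext x
    exact hfg.apply_apply_eq_zero x.down
  let T := ShortComplex.mk a b w0
  have hT : T.ShortExact :=
    { exact := by
        rw [ShortComplex.ab_exact_iff]
        intro x hx
        obtain ⟨y, hy⟩ := (hfg x.down).1 (congrArg ULift.down hx)
        exact ⟨⟨y⟩, ULift.ext _ _ hy⟩
      mono_f := (AddCommGrpCat.mono_iff_injective _).2 fun x y h => ULift.ext _ _ (hf (congrArg ULift.down h))
      epi_g := (AddCommGrpCat.epi_iff_surjective _).2 fun z => ⟨⟨(hg z.down).choose⟩, ULift.ext _ _ (hg z.down).choose_spec⟩ }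
  haveI : PreservesFiniteColimits (constantSheaf X.smallEtaleTopology AddCommGrpCat.{u + 1}) :=
    haveI : PreservesFiniteColimits (Functor.const (X.Etale)ᵒᵖ : AddCommGrpCat.{u + 1} ⥤ _) := ⟨fun _ _ _ => inferInstance⟩
    inferInstanceAs (PreservesFiniteColimits (Functor.const _ ⋙ presheafToSheaf _ _))
  haveI : PreservesFiniteLimits (constantSheaf X.smallEtaleTopology AddCommGrpCat.{u + 1}) :=
    haveI : PreservesFiniteLimits (Functor.const (X.Etale)ᵒᵖ : AddCommGrpCat.{u + 1} ⥤ _) := ⟨fun _ _ _ => inferInstance⟩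
    inferInstanceAs (PreservesFiniteLimits (Functor.const _ ⋙ presheafToSheaf _ _))
  haveI : (constantSheaf X.smallEtaleTopology AddCommGrpCat.{u + 1}).Additive :=
    Functor.additive_of_preserves_binary_products _
  exact ⟨_, hT.map_of_exact (constantSheaf X.smallEtaleTopology AddCommGrpCat.{u + 1})⟩

/-- Finiteness with finite constant coefficients follows from prime cyclic coefficients. -/
theorem finite_H_const_of_prime (N : ℕ) (hP : ∀ ℓ : ℕ, ℓ.Prime → ℓ ∣ N → ∀ q, Finite (EtCoh.H X (EtCoh.const X (ZMod ℓ)) q))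
    (M : Type) [AddCommGroup M] [Finite M] (hM : ∀ x : M, N • x = 0) (q : ℕ) :
    Finite (EtCoh.H X (EtCoh.const X M) q) := by
  suffices key : ∀ (m : ℕ) (M : Type) [AddCommGroup M] [Finite M], Nat.card M = m → (∀ x : M, N • x = 0) →
      Finite (EtCoh.H X (EtCoh.const X M) q) from key _ M rfl hM
  intro m
  induction m using Nat.strong_induction_on with
  | _ m ih =>
  intro M _ _ hm hM
  by_cases h1 : m = 1
  · haveI := (Nat.card_eq_one_iff_unique.1 (hm.trans h1)).1
    have h0 := H1DFun.killedBy_const (Z := X) M 1 fun x => Subsingleton.elim _ _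
    rw [one_nsmul] at h0
    haveI := subsingleton_H_of_id_eq_zero h0 q
    infer_instance
  · have hm0 : 0 < m := hm ▸ Nat.card_pos
    obtain ⟨ℓ, hℓ, hdvd⟩ := Nat.exists_prime_and_dvd h1
    haveI : Fact ℓ.Prime := ⟨hℓ⟩
    haveI := Fintype.ofFinite M
    obtain ⟨x, hx⟩ := exists_prime_addOrderOf_dvd_card (G := M) ℓ (by rwa [← Nat.card_eq_fintype_card, hm])
    let f : ZMod ℓ →+ M := ZMod.lift ℓ ⟨zmultiplesHom M x, by
      show (ℓ : ℤ) • x = 0
      rw [natCast_zsmul, ← hx]; exact addOrderOf_nsmul_eq_zero x⟩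
    have hfi : Function.Injective f := (ZMod.lift_injective _).2 fun a ha => by
      have : (a : ℤ) • x = 0 := ha
      rw [← addOrderOf_dvd_iff_zsmul_eq_zero, hx] at this
      exact (ZMod.intCast_zmod_eq_zero_iff_dvd a ℓ).2 this
    let g : M →+ M ⧸ f.range := QuotientAddGroup.mk' f.range
    obtain ⟨w, hS⟩ := constMap_shortExact (X := X) f g hfi (QuotientAddGroup.mk'_surjective _) fun y =>
      (QuotientAddGroup.eq_zero_iff y).trans Iff.rfl
    refine finite_H_mid hS q (hP ℓ hℓ ?_ q) ?_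
    · rw [← hx]; exact addOrderOf_dvd_of_nsmul_eq_zero (hM x)
    · refine ih (Nat.card (M ⧸ f.range)) ?_ (M ⧸ f.range) rfl ?_
      · have hr : Nat.card f.range = ℓ := by
          rw [← Nat.card_congr (AddMonoidHom.ofInjective hfi).toEquiv, Nat.card_zmod]
        have hmul := AddSubgroup.card_eq_card_quotient_mul_card_addSubgroup f.range
        rw [hr, hm] at hmul
        rw [hmul]
        exact lt_mul_of_one_lt_right Nat.card_pos hℓ.one_lt
      · rintro ⟨y⟩
        exact (congrArg g (hM y)).trans (map_zero g) ▸ (map_nsmul g N y).symm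

end Groth.Agent.H05EGA4.EtCl.Fin
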