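import Groth.Agent.H05EGA4.EtCl.Fin.Devissage
import Groth.Agent.H05EGA4.EtCl.Dev.CritBase2
import Groth.Agent.H05EGA4.EtCl.Comp
import Groth.Agent.H05EGA4.EtCl.Restrict
import Groth.Agent.H05EGA4.EtCl.PushVanish
import Groth.Agent.H05EGA4.EtCl.CurvePoints
import Groth.Agent.H18Et.PushImmersion

/-!
# Finiteness passes along finite birational families on curves
-/

set_option autoImplicit false
set_option linter.style.haveILetI false
set_option linter.unusedSectionVars false
set_option backward.isDefEq.respectTransparency false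
set_option backward.isDefEq.respectTransparency.types false

universe u

open CategoryTheory CategoryTheory.Limits AlgebraicGeometry Opposite Abelian

namespace Groth.Agent.H05EGA4.EtCl.Fin

open scoped Groth.Agent.H18Et
open Groth.Agent.H05EGA4.EtCl.Dev Groth.Agent.H05EGA4.EtCl.Dev.Crit

variable {k : Type u} [Field k] [IsAlgClosed k] {Y : Scheme.{u}} (g : Y ⟶ Spec (CommRingCat.of k))
  [LocallyOfFiniteType g] [AlgebraicGeometry.IsNoetherian Y]

include g in
theorem subsingleton_H_of_supp_closed (C : EtCoh.Ab Y) (hS : ∀ y ∈ EtPBC.supp C, IsClosed ({y} : Set Y)) (n : ℕ) :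
    Subsingleton (EtCoh.H Y C (n + 1)) := by
  obtain ⟨e⟩ := nonempty_iso_coprod_closed C fun V s v hv => hS _ (Dev.mem_supp_of_sectSupp hv)
  refine subsingleton_H_of_iso e _ (subsingleton_H_coprod _ _ fun j => ?_)
  haveI := isAlgClosed_residueField_of_isClosed g j.down.1 j.down.2
  exact subsingleton_H_skyPush_sepClosed Y j.down.1 _ n

instance subsingleton_fiber_top {Ω : Type u} [Field Ω] [IsSepClosed Ω] (ξ : Spec (CommRingCat.of Ω) ⟶ Y) :
    Subsingleton ((Scheme.pointSmallEtale ξ).fiber.obj (EtCoh.top Y)) :=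
  ⟨fun a b => by
    change (Over.mk ξ ⟶ Over.mk (𝟙 Y)) at a b
    exact Over.OverMorphism.ext (((Category.comp_id a.left).symm.trans (Over.w a)).trans
      ((Over.w b).symm.trans (Category.comp_id b.left)))⟩

omit [IsAlgClosed k] in
theorem finite_H_zero_of_supp_finite (C : EtCoh.Ab Y) (hC : EtPBC.IsConstructible C)
    (hS : (EtPBC.supp C).Finite) : Finite (EtCoh.H Y C 0) := by
  haveI := hS.to_subtype
  let e := Sheaf.H.equiv₀ C (EtCore.topIsTerminal Y)
  let T : EtPBC.supp C → Type _ := fun x =>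
    (Scheme.pointSmallEtale (H18Et.geomPt (x : Y))).fiber.obj (EtCoh.top Y) →
      (EtCoh.stalk (H18Et.geomPt (x : Y))).obj C
  haveI : ∀ x, Finite (T x) := fun x =>
    haveI : Finite ((EtCoh.stalk (H18Et.geomPt (x : Y))).obj C) :=
      H18Et.Cons.finite_stalk_of_isConstructible C hC _
    inferInstanceAs (Finite (_ → _))
  refine Finite.of_injective (fun z (x : EtPBC.supp C) =>
    (fun t => H18Et.germ (H18Et.geomPt (x : Y)) C (EtCoh.top Y) t (e z) : T x)) fun a b h => ?_
  refine e.injective (H18Et.sect_ext' _ _ fun y => ⟨SeparableClosure (Y.residueField y), inferInstance, inferInstance, H18Et.geomPt y,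
    H18Et.geomPt_base y, fun z => ?_⟩)
  by_cases hy : y ∈ EtPBC.supp C
  · exact congrFun (congrFun h ⟨y, hy⟩) z
  · haveI := H18Et.Cons.subsingleton_stalk_of_notMem_supp C (H18Et.geomPt y) (by rw [H18Et.geomPt_base]; exact hy)
    exact Subsingleton.elim _ _

include g in
theorem finite_H_of_supp (C : EtCoh.Ab Y) (hC : EtPBC.IsConstructible C) (hS : (EtPBC.supp C).Finite)
    (hS' : ∀ y ∈ EtPBC.supp C, IsClosed ({y} : Set Y)) (n : ℕ) : Finite (EtCoh.H Y C n) := by
  rcases n with _ | n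
  · exact finite_H_zero_of_supp_finite C hC hS
  · haveI := subsingleton_H_of_supp_closed g C hS' n
    infer_instance

theorem exists_unit_comp {W V : Scheme.{u}} (ν : W ⟶ Y) (j : V ⟶ W) (A : EtCoh.Ab Y) :
    ∃ θ : (EtCoh.push (j ≫ ν)).obj ((EtCoh.pull (j ≫ ν)).obj A) ⟶
        (EtCoh.push ν).obj ((EtCoh.push j).obj ((EtCoh.pull j).obj ((EtCoh.pull ν).obj A))),
      IsIso θ ∧ (EtCoh.pullPushAdj ν).unit.app A ≫
          (EtCoh.push ν).map ((EtCoh.pullPushAdj j).unit.app ((EtCoh.pull ν).obj A)) =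
        (EtCoh.pullPushAdj (j ≫ ν)).unit.app A ≫ θ := by
  let r := j ≫ ν
  let A' := (EtCoh.pullPushAdj ν).comp (EtCoh.pullPushAdj j)
  let B' := (EtCoh.pullPushAdj r).ofNatIsoRight (EtCoh.pushComp ν j).symm
  let φ : EtCoh.pull ν ⋙ EtCoh.pull j ≅ EtCoh.pull r := A'.leftAdjointUniq B'
  have hu := Adjunction.unit_leftAdjointUniq_hom_app A' B' A
  refine ⟨(EtCoh.pushComp ν j).inv.app _ ≫ (EtCoh.push ν).map ((EtCoh.push j).map (φ.inv.app A)), ?_, ?_⟩
  · haveI : IsIso (φ.inv.app A) := inferInstance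
    exact IsIso.comp_isIso
  · have hB : B'.unit.app A = (EtCoh.pullPushAdj r).unit.app A ≫ (EtCoh.pushComp ν j).inv.app _ := by
      simp [B', Adjunction.ofNatIsoRight]
    have hA : A'.unit.app A = (EtCoh.pullPushAdj ν).unit.app A ≫
        (EtCoh.push ν).map ((EtCoh.pullPushAdj j).unit.app ((EtCoh.pull ν).obj A)) := by
      simp [A', Adjunction.comp_unit_app]
    rw [← hA, ← Category.assoc, ← hB, ← hu, Category.assoc]
    refine (Category.comp_id _).symm.trans (congrArg (A'.unit.app A ≫ ·) ?_)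
    show 𝟙 _ = (EtCoh.push ν).map ((EtCoh.push j).map (φ.hom.app A)) ≫ (EtCoh.push ν).map ((EtCoh.push j).map (φ.inv.app A))
    rw [← Functor.map_comp, ← Functor.map_comp, Iso.hom_inv_id_app, CategoryTheory.Functor.map_id,
      CategoryTheory.Functor.map_id]


theorem isIso_pull_map_unit {V : Scheme.{u}} (r : V ⟶ Y) [IsImmersion r] (A : EtCoh.Ab Y) :
    IsIso ((EtCoh.pull r).map ((EtCoh.pullPushAdj r).unit.app A)) := by
  haveI := H18Et.isIso_counit_of_liftsEtaleUniv (H18Et.liftsEtaleUniv_of_isImmersion r) ((EtCoh.pull r).obj A)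
  haveI : IsIso (𝟙 ((EtCoh.pull r).obj A)) := ⟨⟨𝟙 _, Category.id_comp _, Category.id_comp _⟩⟩
  exact IsIso.of_isIso_fac_right ((EtCoh.pullPushAdj r).left_triangle_components A)

theorem isIso_at_unit {V : Scheme.{u}} (r : V ⟶ Y) [IsImmersion r] (A : EtCoh.Ab Y) (t : V) :
    IsIso ((at' (r t)).map ((EtCoh.pullPushAdj r).unit.app A)) := by
  haveI := isIso_pull_map_unit r A
  refine isIso_at (r t) _ ?_ ?_
  · exact notMem_supp_of_pull_isZero r _ (isZero_map_kernel_of_isIso r _) t
  · exact notMem_supp_of_pull_isZero r _ (isZero_map_cokernel_of_epi r _) t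

theorem mono_at_push_map {W : Scheme.{u}} (ν : W ⟶ Y) [IsFinite ν] {A B : EtCoh.Ab W} (v : A ⟶ B) (y : Y)
    (h : ∀ w, ν w = y → w ∉ EtPBC.supp (kernel v)) : Mono ((at' y).map ((EtCoh.push ν).map v)) := by
  haveI := H18Et.pull_preservesFiniteLimits (Y.fromSpecResidueField y)
  haveI : (EtCoh.push ν).IsRightAdjoint := ⟨_, ⟨EtCoh.pullPushAdj ν⟩⟩
  haveI : PreservesFiniteLimits (EtCoh.push ν) :=
    (EtCoh.pullPushAdj ν).rightAdjoint_preservesLimits.{0, 0}.preservesFiniteLimits
  haveI := additive_push ν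
  haveI := Dev.isNoetherian_of_finite ν
  have hker : y ∉ EtPBC.supp (kernel ((EtCoh.push ν).map v)) := fun hm => by
    obtain ⟨w, hw, hwy⟩ := Dev.supp_push_subset_image ν (kernel v)
      (H18Et.Cons.supp_subset_of_mono (PreservesKernel.iso (EtCoh.push ν) v).inv hm)
    exact h w hwy hw
  exact Preadditive.mono_of_isZero_kernel _
    (((isZero_at_iff y _).2 hker).of_iso (PreservesKernel.iso (at' y) _).symm)

theorem isIso_at_unit_of_birational {W V : Scheme.{u}} (ν : W ⟶ Y) [IsFinite ν] (j : V ⟶ W) [IsImmersion j]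
    [IsImmersion (j ≫ ν)] (hrange : ν ⁻¹' Set.range (j ≫ ν) = Set.range j) (A : EtCoh.Ab Y) (y : Y)
    (hy : y ∈ Set.range (j ≫ ν)) : IsIso ((at' y).map ((EtCoh.pullPushAdj ν).unit.app A)) := by
  haveI := Dev.isNoetherian_of_finite ν
  obtain ⟨θ, hθ, h3⟩ := exists_unit_comp ν j A
  have h4 : IsIso ((at' y).map ((EtCoh.pullPushAdj ν).unit.app A) ≫
      (at' y).map ((EtCoh.push ν).map ((EtCoh.pullPushAdj j).unit.app ((EtCoh.pull ν).obj A)))) := by
    obtain ⟨t, rfl⟩ := hy
    haveI := isIso_at_unit (j ≫ ν) A t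
    rw [← Functor.map_comp, h3, Functor.map_comp]
    infer_instance
  haveI : Mono ((at' y).map ((EtCoh.push ν).map ((EtCoh.pullPushAdj j).unit.app ((EtCoh.pull ν).obj A)))) := by
    refine mono_at_push_map ν _ y fun w hw => ?_
    have hwr : w ∈ Set.range j := hrange ▸ (show ν w ∈ Set.range (j ≫ ν) from hw ▸ hy)
    obtain ⟨s, rfl⟩ := hwr
    haveI := isIso_pull_map_unit j ((EtCoh.pull ν).obj A)
    exact notMem_supp_of_pull_isZero j _ (isZero_map_kernel_of_isIso j _) s
  haveI := h4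
  haveI : Epi ((at' y).map ((EtCoh.push ν).map ((EtCoh.pullPushAdj j).unit.app ((EtCoh.pull ν).obj A)))) :=
    epi_of_epi ((at' y).map ((EtCoh.pullPushAdj ν).unit.app A)) _
  haveI := isIso_of_mono_of_epi
    ((at' y).map ((EtCoh.push ν).map ((EtCoh.pullPushAdj j).unit.app ((EtCoh.pull ν).obj A))))
  exact IsIso.of_isIso_comp_right ((at' y).map ((EtCoh.pullPushAdj ν).unit.app A))
    ((at' y).map ((EtCoh.push ν).map ((EtCoh.pullPushAdj j).unit.app ((EtCoh.pull ν).obj A))))

theorem isIso_at_biproduct_π {m : ℕ} (P : Fin m → EtCoh.Ab Y) (i : Fin m) (y : Y)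
    (hother : ∀ l, l ≠ i → y ∉ EtPBC.supp (P l)) : IsIso ((at' y).map (biproduct.π P i)) := by
  haveI := H18Et.pull_preservesFiniteLimits (Y.fromSpecResidueField y)
  haveI : (at' y).Additive := Functor.additive_of_preserves_binary_products _
  refine ⟨(at' y).map (biproduct.ι P i), ?_, by rw [← Functor.map_comp, biproduct.ι_π_self, CategoryTheory.Functor.map_id]⟩
  rw [← Functor.map_comp, ← CategoryTheory.Functor.map_id, ← biproduct.total (f := P), Functor.map_sum,
    Finset.sum_eq_single i (fun l _ hl => ?_) (fun h => absurd (Finset.mem_univ i) h)]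
  rw [Functor.map_comp, ((isZero_at_iff y _).2 (hother l hl)).eq_of_tgt ((at' y).map (biproduct.π P l)) 0, zero_comp]

theorem finite_H_of_kernel_cokernel {A B : EtCoh.Ab Y} (c : A ⟶ B) (hB : ∀ n, Finite (EtCoh.H Y B n))
    (hK : ∀ n, Finite (EtCoh.H Y (kernel c) n)) (hC : ∀ n, Finite (EtCoh.H Y (cokernel c) n)) (q : ℕ) :
    Finite (EtCoh.H Y A q) := by
  let S₁ := ShortComplex.mk (kernel.ι c) (Abelian.factorThruImage c)
    (by rw [← cancel_mono (Abelian.image.ι c), Category.assoc, Abelian.image.fac, kernel.condition, zero_comp])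
  have hS₁ : S₁.ShortExact :=
    { exact := S₁.exact_of_f_is_kernel (KernelFork.IsLimit.ofι _ _
        (fun t ht => kernel.lift c t (by rw [← Abelian.image.fac c, reassoc_of% ht, zero_comp]))
        (fun t ht => kernel.lift_ι _ _ _)
        (fun t ht l hl => (cancel_mono (kernel.ι c)).1 (hl.trans (kernel.lift_ι _ _ _).symm)))
      mono_f := inferInstanceAs (Mono (kernel.ι c))
      epi_g := inferInstanceAs (Epi (Abelian.factorThruImage c)) }
  let S₂ := ShortComplex.mk (Abelian.image.ι c) (cokernel.π c) (kernel.condition _)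
  have hS₂ : S₂.ShortExact :=
    { exact := S₂.exact_of_f_is_kernel (kernelIsKernel _)
      mono_f := inferInstanceAs (Mono (kernel.ι (cokernel.π c)))
      epi_g := inferInstanceAs (Epi (cokernel.π c)) }
  have hI : ∀ n, Finite (EtCoh.H Y (Abelian.image c) n) := fun n => by
    rcases n with _ | n
    · exact finite_H_zero_of_mono (Abelian.image.ι c) (hB 0)
    · exact finite_H_left hS₂ n (hC n) (hB (n + 1))
  exact finite_H_mid hS₁ q (hK q) (hI q)

include g in
/-- Finiteness along a finite family of finite morphisms which is an isomorphism off finitely many closed points. -/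
theorem finite_H_of_family {m : ℕ} (W V : Fin m → Scheme.{u}) (ν : ∀ i, W i ⟶ Y) [∀ i, IsFinite (ν i)]
    (j : ∀ i, V i ⟶ W i) [∀ i, IsImmersion (j i)] [∀ i, IsImmersion (j i ≫ ν i)]
    (hrange : ∀ i, ν i ⁻¹' Set.range (j i ≫ ν i) = Set.range (j i))
    (hdisj : ∀ i l, i ≠ l → Disjoint (Set.range (ν l)) (Set.range (j i ≫ ν i)))
    (hbad : (⋃ i, Set.range (j i ≫ ν i))ᶜ.Finite)
    (hcl : ∀ y ∈ (⋃ i, Set.range (j i ≫ ν i))ᶜ, IsClosed ({y} : Set Y))
    (ℓ : ℕ) [NeZero ℓ] (hW : ∀ i q, Finite (EtCoh.H (W i) (EtCoh.const (W i) (ZMod ℓ)) q)) (q : ℕ) :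
    Finite (EtCoh.H Y (EtCoh.const Y (ZMod ℓ)) q) := by
  let A := EtCoh.const Y (ZMod ℓ)
  let P : Fin m → EtCoh.Ab Y := fun i => (EtCoh.push (ν i)).obj ((EtCoh.pull (ν i)).obj A)
  have hPc : ∀ i, EtPBC.IsConstructible (P i) := fun i => by
    haveI := Dev.isNoetherian_of_finite (ν i)
    exact H18Et.Cons.isConstructible_push_finite (ν i) _
      (H18Et.Cons.isConstructible_pull (ν i) A (isConstructible_const_finite (ZMod ℓ)))
  let c : A ⟶ ⨁ P := biproduct.lift fun i => (EtCoh.pullPushAdj (ν i)).unit.app A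
  have hiso : ∀ (i : Fin m) (y : Y), y ∈ Set.range (j i ≫ ν i) → IsIso ((at' y).map c) := by
    intro i y hy
    haveI := isIso_at_unit_of_birational (ν i) (j i) (hrange i) A y hy
    haveI := isIso_at_biproduct_π P i y fun l hl hm => by
      obtain ⟨w, -, hw⟩ := Dev.supp_push_subset_image (ν l) _ hm
      exact Set.disjoint_left.1 (hdisj i l hl.symm) ⟨w, hw⟩ hy
    haveI : IsIso ((at' y).map c ≫ (at' y).map (biproduct.π P i)) := by
      rw [← Functor.map_comp, biproduct.lift_π]; infer_instance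
    exact IsIso.of_isIso_comp_right ((at' y).map c) ((at' y).map (biproduct.π P i))
  -- kernel and cokernel live at the bad points
  have hAc : EtPBC.IsConstructible A := isConstructible_const_finite (ZMod ℓ)
  have hBc : EtPBC.IsConstructible (⨁ P) := H18Et.Cons.isConstructible_biproduct P hPc
  have hK : EtPBC.supp (kernel c) ⊆ (⋃ i, Set.range (j i ≫ ν i))ᶜ := fun y hy hm => by
    obtain ⟨i, hi⟩ := Set.mem_iUnion.1 hm
    haveI := hiso i y hi
    exact notMem_kernel y c hy
  have hC : EtPBC.supp (cokernel c) ⊆ (⋃ i, Set.range (j i ≫ ν i))ᶜ := fun y hy hm => by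
    obtain ⟨i, hi⟩ := Set.mem_iUnion.1 hm
    haveI := hiso i y hi
    exact notMem_cokernel y c hy
  obtain ⟨hKc, hCc⟩ := H18Et.Cons.isConstructible_kernel_cokernel c hAc hBc
  have hKf : ∀ n, Finite (EtCoh.H Y (kernel c) n) := fun n =>
    finite_H_of_supp g _ hKc (hbad.subset hK) (fun y hy => hcl y (hK hy)) n
  have hCf : ∀ n, Finite (EtCoh.H Y (cokernel c) n) := fun n =>
    finite_H_of_supp g _ hCc (hbad.subset hC) (fun y hy => hcl y (hC hy)) n
  have hB : ∀ n, Finite (EtCoh.H Y (⨁ P) n) := fun n => finite_H_biproduct P n fun i =>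
    finite_H_push (ν i) _ n (finite_H_of_iso (EtCore.pullConst (ν i) (ZMod ℓ)) n (hW i n))
  exact finite_H_of_kernel_cokernel c hB hKf hCf q

end Groth.Agent.H05EGA4.EtCl.Fin
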