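import Groth.Agent.H22Alg.CurveCompact
import Groth.Agent.H06Norm.Birational
import Groth.Agent.H06Norm.Criterion
import Groth.Agent.H28Neron.NormalSmooth
import Groth.Agent.H11Curve.NormFinite
import Groth.Agent.H11Curve.NormalizationBasic
import Groth.Agent.H28Bertini.Regular
import Groth.Agent.H06NormCurve.Dim
import Groth.Agent.H8Props.NormalLowDim
import Groth.Agent.H8Props.FlatDimOneBase
import Groth.Agent.H05EGA4.EtCl.Dev.Main
import Groth.Agent.H05EGA4.EtCl.DimOne
import Groth.Prelude.Def_Curve

/-!
# Smooth completions of smooth curves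
-/

set_option autoImplicit false
set_option linter.style.haveILetI false
set_option linter.unusedSectionVars false
set_option backward.isDefEq.respectTransparency.types false

universe u

open CategoryTheory CategoryTheory.Limits AlgebraicGeometry Opposite TopologicalSpace

namespace Groth.Agent.H05EGA4.EtCl.Fin

/-- A smooth separated curve over an algebraically closed field is an open part of a smooth proper one. -/
theorem exists_smooth_completion {k : Type u} [Field k] [IsAlgClosed k] {W : Scheme.{u}}
    (h : W ⟶ Spec (CommRingCat.of k)) [Smooth h] [IsSeparated h] [QuasiCompact h] [IsIntegral W]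
    (hdim : topologicalKrullDim W = 1) :
    ∃ (Xb : Scheme.{u}) (q : Xb ⟶ Spec (CommRingCat.of k)) (U : Xb.Opens) (_ : (W : Scheme.{u}) ≅ (U : Scheme.{u})),
      (letI : Xb.Over (Spec (CommRingCat.of k)) := ⟨q⟩
       Curve.IsSmoothProperCurve k Xb (Xb ↘ Spec (CommRingCat.of k))) ∧ IsIntegral Xb ∧
      AlgebraicGeometry.IsNoetherian Xb ∧ Pi1.IsNormalScheme Xb ∧ (U : Set Xb).Nonempty := by
  letI : W.Over (Spec (CommRingCat.of k)) := ⟨h⟩
  haveI : IsSeparated (W ↘ Spec (CommRingCat.of k)) := ‹IsSeparated h›
  haveI : LocallyOfFiniteType (W ↘ Spec (CommRingCat.of k)) := inferInstanceAs (LocallyOfFiniteType h)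
  haveI : QuasiCompact (W ↘ Spec (CommRingCat.of k)) := ‹QuasiCompact h›
  haveI : AlgebraicGeometry.IsNoetherian W := H22Alg.CurveQProj.isNoetherian_of_finType k (X := W)
  obtain ⟨d, Y, c, j, hc, hj, hjc, hdense, hdom, hfin, hcl⟩ :=
    H22Alg.CurveCompact.exists_compactification k (X := W) hdim.le
  haveI := hc; haveI := hj; haveI := hdom
  let g : Y ⟶ Spec (CommRingCat.of k) := c ≫ CohB1.ProjSpace.toSpec d k
  haveI : IsProper (CohB1.ProjSpace.toSpec d k) := inferInstance
  haveI : IsProper g := inferInstance
  haveI : IsLocallyNoetherian Y := LocallyOfFiniteType.isLocallyNoetherian g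
  haveI : CompactSpace Y := QuasiCompact.compactSpace_of_compactSpace g
  haveI : AlgebraicGeometry.IsNoetherian Y := {}
  haveI : IsReduced Y := IsSchemeTheoreticallyDominant.isReduced j
  haveI : IrreducibleSpace Y := by
    refine (irreducibleSpace_def _).2 (show IsIrreducible (Set.univ : Set Y) from ?_)
    rw [← hdense.closure_eq, ← Set.image_univ]
    exact ((IrreducibleSpace.isIrreducible_univ W).image j j.continuous.continuousOn).closure
  haveI : IsIntegral Y := isIntegral_of_irreducibleSpace_of_isReduced _
  haveI : QuasiCompact (Y.fromSpecStalk (genericPoint Y)) := inferInstance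
  haveI : QuasiSeparated (Y.fromSpecStalk (genericPoint Y)) := inferInstance
  haveI : IsFinite (Curv2.normalizationι Y) := H11Curve.isFinite_normalizationι g
  let Xb := Curv2.normalization Y
  let ν := Curv2.normalizationι Y
  let q : Xb ⟶ Spec (CommRingCat.of k) := ν ≫ g
  haveI : IsIntegral Xb := H11Curve.isIntegral_normalization Y
  haveI : AlgebraicGeometry.IsNoetherian Xb := Dev.isNoetherian_of_finite ν
  have hWn : Pi1.IsNormalScheme W := H28Neron.isNormalScheme_of_smooth h
    (H06Norm.isNormalScheme_Spec_isField _ (Field.toIsField k))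
  let V := j.opensRange
  have hVne : (V : Set Y).Nonempty := ⟨_, Classical.arbitrary W, rfl⟩
  haveI : IsIso (ν ∣_ V) := H06Norm.isIso_normalizationι_restrict Y V hVne fun y hy => by
    obtain ⟨w, rfl⟩ := hy
    obtain ⟨h1, h2⟩ := hWn w
    haveI := h1; haveI := h2
    exact IsIntegrallyClosed.of_equiv (asIso (j.stalkMap w)).commRingCatIsoToRingEquiv.symm
  let U := ν ⁻¹ᵁ V
  let e : W ≅ (U : Scheme.{u}) := j.isoOpensRange ≪≫ (asIso (ν ∣_ V)).symm
  have hdimX : topologicalKrullDim Xb = 1 := by
    refine le_antisymm ?_ ?_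
    · refine (H06NormCurve.topologicalKrullDim_le_of_finite ν).trans ?_
      have hcl' : ∀ y : Y, y ∉ Set.range j → IsClosed ({y} : Set Y) := hcl
      refine (Order.krullDim_le_one_iff).2 fun a => ?_
      obtain ⟨y, hy⟩ := QuasiSober.sober a.2 a.3
      have hyd : closure ({y} : Set Y) = (a : Set Y) := hy.def
      by_cases hy' : IsClosed ({y} : Set Y)
      · left
        intro b hb
        have : (b : Set Y) ⊆ {y} := by
          rw [← hy'.closure_eq, hyd]; exact hb
        obtain ⟨z, hz⟩ := b.2.nonempty
        show (a : Set Y) ⊆ (b : Set Y)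
        rw [← hyd, hy'.closure_eq, Set.singleton_subset_iff, ← Set.mem_singleton_iff.1 (this hz)]
        exact hz
      · right
        intro b hb
        show (b : Set Y) ⊆ (a : Set Y)
        obtain ⟨w, rfl⟩ : y ∈ Set.range j := by by_contra h'; exact hy' (hcl' y h')
        obtain ⟨z, hz⟩ := QuasiSober.sober b.2 b.3
        have hzd : closure ({z} : Set Y) = (b : Set Y) := hz.def
        have hzw : z ⤳ j w := by
          rw [specializes_iff_mem_closure, hzd]
          exact hb hy.mem
        obtain ⟨w', rfl⟩ : z ∈ Set.range j :=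
          hzw.mem_open j.isOpenEmbedding.isOpen_range ⟨w, rfl⟩
        have hww : w' ⤳ w := j.isOpenEmbedding.isInducing.specializes_iff.1 hzw
        rcases eq_or_ne w' w with rfl | hne
        · rw [← hzd, hyd]
        · refine absurd ?_ hy'
          have hwc : IsClosed ({w} : Set W) := isClosed_of_dim_le_one hdim.le fun hm => hne (hm w' hww)
          haveI : JacobsonSpace Y := LocallyOfFiniteType.jacobsonSpace g
          have hl : IsLocallyClosed ({j w} : Set Y) := by
            rw [← Set.image_singleton]
            exact hwc.isLocallyClosed.image j.isOpenEmbedding.isInducing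
              j.isOpenEmbedding.isOpen_range.isLocallyClosed
          obtain ⟨z, hz1, hz2⟩ := nonempty_inter_closedPoints (Set.singleton_nonempty (j w)) hl
          rwa [Set.mem_singleton_iff.1 hz1] at hz2
    · rw [← hdim]
      exact (e.hom ≫ U.ι).isOpenEmbedding.isInducing.topologicalKrullDim_le
  refine ⟨Xb, q, U, e, ⟨inferInstanceAs (IsProper (ν ≫ g)), ?_, inferInstance, hdimX⟩, inferInstance, inferInstance,
    H11Curve.isNormal_normalization Y, ⟨_, (e.hom (Classical.arbitrary W)).2⟩⟩
  refine H28Bertini.smooth_of_regular (ν ≫ g) fun w => ?_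
  obtain ⟨h1, h2⟩ := H11Curve.isNormal_normalization Y w
  haveI := h1; haveI := h2
  exact H8Props.NormalLowDim.isRegularLocalRing_of_dim_le_one _
    ((H8Props.FlatDimOneBase.ringKrullDim_stalk_le _ w).trans hdimX.le)

end Groth.Agent.H05EGA4.EtCl.Fin
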