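import Groth.Agent.H05EGA4.EtCl.Fin.Kummer
import Groth.Agent.H25AbCube.GroupTorsion

/-!
# Counting the torsion of `H¹` of an open curve
-/

set_option autoImplicit false
set_option linter.style.haveILetI false
set_option linter.unusedSectionVars false
set_option backward.isDefEq.respectTransparency.types false

universe u

open CategoryTheory CategoryTheory.Limits AlgebraicGeometry Opposite Abelian

namespace Groth.Agent.H05EGA4.EtCl.Fin

open scoped Groth.Agent.H18Et

attribute [local instance] Groth.Agent.H28Vert.picLaw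

section Algebra

theorem card_eq_mul_of_exact {A B C : Type*} [AddCommGroup A] [AddCommGroup B] [AddCommGroup C] (f : A →+ B)
    (g : B →+ C) (h : g.ker = f.range) : Nat.card B = Nat.card (A ⧸ f.ker) * Nat.card g.range := by
  rw [AddSubgroup.card_eq_card_quotient_mul_card_addSubgroup g.ker,
    Nat.card_congr (QuotientAddGroup.quotientKerEquivRange g).toEquiv, mul_comm, h,
    Nat.card_congr (QuotientAddGroup.quotientKerEquivRange f).toEquiv]

theorem card_ker_sum_zmod (S : Type*) [Fintype S] [Nonempty S] (n : ℕ) [NeZero n] :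
    Nat.card (AddMonoidHom.mk' (fun v : S → ZMod n => ∑ s, v s) fun v w => Finset.sum_add_distrib).ker =
      n ^ (Fintype.card S - 1) := by
  classical
  let σ := AddMonoidHom.mk' (fun v : S → ZMod n => ∑ s, v s) fun v w => Finset.sum_add_distrib
  have hσ : Function.Surjective σ := fun a => ⟨Pi.single (Classical.arbitrary S) a, Finset.sum_pi_single' _ a _ |>.trans (if_pos (Finset.mem_univ _))⟩
  have h := AddSubgroup.card_eq_card_quotient_mul_card_addSubgroup σ.ker
  rw [Nat.card_congr (QuotientAddGroup.quotientKerEquivOfSurjective σ hσ).toEquiv, Nat.card_zmod, Nat.card_pi,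
    Finset.prod_const, Nat.card_zmod, Finset.card_univ] at h
  refine Nat.eq_of_mul_eq_mul_left (NeZero.pos n) (h.symm.trans ?_)
  rw [← pow_succ', Nat.sub_add_cancel Fintype.card_pos]

/-- The product of units modulo `n` and `n`-torsion classes of an open part of a curve. -/
theorem card_units_mul_torsion {A P Q S : Type*} [AddCommGroup A] [AddCommGroup P] [AddCommGroup Q] [Fintype S]
    [Nonempty S] (δ : P →+ ℤ) (ψ : (S → ℤ) →+ P) (r : P →+ Q) (φ : A →+ (S → ℤ))
    (hδ : ∀ c, δ c = 0 → ∀ n : ℕ, 0 < n → ∃ b, n • b = c) (hδψ : ∀ D, δ (ψ D) = ∑ s, D s)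
    (hr : Function.Surjective r) (hψ : ψ.range = r.ker) (hφ : φ.range = ψ.ker)
    (hA : ∀ a, φ a = 0 → ∀ n : ℕ, 0 < n → ∃ b, n • b = a) (n : ℕ) [NeZero n] :
    Nat.card (A ⧸ (nsmulAddMonoidHom n : A →+ A).range) * Nat.card (nsmulAddMonoidHom n : Q →+ Q).ker =
      Nat.card (nsmulAddMonoidHom n : P →+ P).ker * n ^ (Fintype.card S - 1) := by
  classical
  let E : AddSubgroup (P × (S → ℤ)) :=
    ((nsmulAddMonoidHom n : P →+ P).comp (AddMonoidHom.fst P (S → ℤ)) - ψ.comp (AddMonoidHom.snd P (S → ℤ))).ker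
  have hE : ∀ p : P × (S → ℤ), p ∈ E ↔ n • p.1 = ψ p.2 := fun p => sub_eq_zero
  let τ : (S → ℤ) →+ E := (ψ.prod (nsmulAddMonoidHom n)).codRestrict E fun D =>
    (hE _).2 (show n • ψ D = ψ (n • D) from (map_nsmul ψ n D).symm)
  let T := τ.range
  have hT : ∀ (e : E), (e : E ⧸ T) = 0 ↔ ∃ D, ψ D = e.1.1 ∧ n • D = e.1.2 := fun e => by
    rw [QuotientAddGroup.eq_zero_iff]
    exact ⟨fun ⟨D, hD⟩ => ⟨D, congrArg (fun z : E => z.1.1) hD, congrArg (fun z : E => z.1.2) hD⟩,
      fun ⟨D, h1, h2⟩ => ⟨D, Subtype.ext (Prod.ext h1 h2)⟩⟩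
  -- units and torsion classes on the open part
  let f1 : A →+ E ⧸ T := (QuotientAddGroup.mk' T).comp (((0 : A →+ P).prod φ).codRestrict E fun a => (hE _).2 (by
    show n • (0 : P) = ψ (φ a)
    rw [smul_zero]
    exact (hφ.le ⟨a, rfl⟩).symm))
  let g1 : E ⧸ T →+ Q := QuotientAddGroup.lift T (r.comp ((AddMonoidHom.fst _ _).comp E.subtype)) (by
    rintro _ ⟨D, rfl⟩
    exact hψ.le ⟨D, rfl⟩)
  have hk1 : f1.ker = (nsmulAddMonoidHom n : A →+ A).range := by
    ext a
    refine (hT _).trans ⟨fun ⟨D, h1, h2⟩ => ?_, fun ⟨b, hb⟩ => ⟨φ b, ?_, ?_⟩⟩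
    · obtain ⟨b, rfl⟩ := hφ.ge (show D ∈ ψ.ker from h1)
      obtain ⟨c, hc⟩ := hA (a - n • b) (by rw [map_sub, map_nsmul, sub_eq_zero]; exact h2.symm) n (NeZero.pos n)
      exact ⟨b + c, by show n • (b + c) = a; rw [smul_add, hc, add_sub_cancel]⟩
    · exact hφ.le ⟨b, rfl⟩
    · show n • φ b = φ a
      rw [← hb, nsmulAddMonoidHom_apply, map_nsmul]
  have he1 : g1.ker = f1.range := by
    ext z
    obtain ⟨e, rfl⟩ := QuotientAddGroup.mk_surjective z
    constructor
    · intro h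
      obtain ⟨D, hD⟩ := hψ.ge (show e.1.1 ∈ r.ker from h)
      obtain ⟨a, ha⟩ := hφ.ge (show e.1.2 - n • D ∈ ψ.ker by
        rw [AddMonoidHom.mem_ker, map_sub, map_nsmul, hD, ← (hE _).1 e.2, sub_self])
      refine ⟨a, ?_⟩
      refine (QuotientAddGroup.eq_iff_sub_mem.2 ⟨-D, Subtype.ext (Prod.ext ?_ ?_)⟩)
      · show ψ (-D) = 0 - e.1.1
        rw [map_neg, hD, zero_sub]
      · show n • (-D) = φ a - e.1.2
        rw [ha, smul_neg]; abel
    · rintro ⟨a, ha⟩
      rw [← ha]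
      exact map_zero r
  have hr1 : g1.range = (nsmulAddMonoidHom n : Q →+ Q).ker := by
    ext q
    constructor
    · rintro ⟨z, rfl⟩
      obtain ⟨e, rfl⟩ := QuotientAddGroup.mk_surjective z
      show n • r e.1.1 = 0
      rw [← map_nsmul, (hE _).1 e.2]
      exact hψ.le ⟨_, rfl⟩
    · intro hq
      obtain ⟨x, rfl⟩ := hr q
      obtain ⟨D, hD⟩ := hψ.ge (show n • x ∈ r.ker by
        rw [AddMonoidHom.mem_ker, map_nsmul]; exact hq)
      exact ⟨((⟨(x, D), (hE _).2 hD.symm⟩ : E) : E ⧸ T), rfl⟩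
  have c1 : Nat.card (E ⧸ T) = _ := card_eq_mul_of_exact f1 g1 he1
  rw [hk1, hr1] at c1
  -- torsion classes and divisors of degree divisible by `n`
  let f2 : (nsmulAddMonoidHom n : P →+ P).ker →+ E ⧸ T :=
    (QuotientAddGroup.mk' T).comp (((nsmulAddMonoidHom n : P →+ P).ker.subtype.prod 0).codRestrict E fun t => (hE _).2 (by
      show n • (t : P) = ψ 0
      rw [map_zero]
      exact t.2))
  let g2 : E ⧸ T →+ (S → ZMod n) := QuotientAddGroup.lift T
    (((Int.castAddHom (ZMod n)).compLeft S).comp ((AddMonoidHom.snd _ _).comp E.subtype)) (by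
      rintro _ ⟨D, rfl⟩
      funext s
      show ((n • D) s : ZMod n) = 0
      simp)
  have hk2 : f2.ker = ⊥ := (AddSubgroup.eq_bot_iff_forall _).2 fun t ht => by
    obtain ⟨D, h1, h2⟩ := (hT _).1 ht
    refine Subtype.ext (h1.symm.trans ?_)
    have hD : D = 0 := funext fun s => (mul_eq_zero.1 (show (n : ℤ) * D s = 0 by
      rw [← nsmul_eq_mul]; exact congrFun h2 s)).resolve_left (Nat.cast_ne_zero.2 (NeZero.ne n))
    rw [hD, map_zero]
    rfl
  have he2 : g2.ker = f2.range := by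
    ext z
    obtain ⟨e, rfl⟩ := QuotientAddGroup.mk_surjective z
    constructor
    · intro h
      choose D hD using fun s => (ZMod.intCast_zmod_eq_zero_iff_dvd (e.1.2 s) n).1 (congrFun h s)
      have hD' : n • D = e.1.2 := funext fun s => by rw [Pi.smul_apply, nsmul_eq_mul]; exact (hD s).symm
      refine ⟨⟨e.1.1 - ψ D, ?_⟩, ?_⟩
      · show n • (e.1.1 - ψ D) = 0
        rw [smul_sub, (hE _).1 e.2, ← map_nsmul, hD', sub_self]
      · refine (QuotientAddGroup.eq_iff_sub_mem.2 ⟨-D, Subtype.ext (Prod.ext ?_ ?_)⟩)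
        · show ψ (-D) = e.1.1 - ψ D - e.1.1
          rw [map_neg]; abel
        · show n • (-D) = 0 - e.1.2
          rw [smul_neg, hD', zero_sub]
    · rintro ⟨t, ht⟩
      rw [← ht]
      funext s
      exact Int.cast_zero
  have hr2 : g2.range = (AddMonoidHom.mk' (fun v : S → ZMod n => ∑ s, v s) fun v w => Finset.sum_add_distrib).ker := by
    ext v
    constructor
    · rintro ⟨z, rfl⟩
      obtain ⟨e, rfl⟩ := QuotientAddGroup.mk_surjective z
      show ∑ s, ((e.1.2 s : ℤ) : ZMod n) = 0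
      rw [← Int.cast_sum, ← hδψ, ← (hE _).1 e.2, map_nsmul, nsmul_eq_mul, Int.cast_mul, Int.cast_natCast,
        ZMod.natCast_self, zero_mul]
    · intro hv
      choose D hD using fun s => ZMod.intCast_surjective (v s)
      obtain ⟨m, hm⟩ := (ZMod.intCast_zmod_eq_zero_iff_dvd (∑ s, D s) n).1 (by
        rw [Int.cast_sum]; simp only [hD]; exact hv)
      let s₀ := Classical.arbitrary S
      obtain ⟨b, hb⟩ := hδ (ψ (D - Pi.single s₀ ((n : ℤ) * m))) (by
        rw [hδψ]
        simp [Finset.sum_sub_distrib, hm]) n (NeZero.pos n)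
      refine ⟨((⟨(b + ψ (Pi.single s₀ m), D), (hE _).2 ?_⟩ : E) : E ⧸ T), funext hD⟩
      show n • (b + ψ (Pi.single s₀ m)) = ψ D
      rw [smul_add, hb, ← map_nsmul, ← Pi.single_smul, nsmul_eq_mul, ← map_add, sub_add_cancel]
  have c2 : Nat.card (E ⧸ T) = _ := card_eq_mul_of_exact f2 g2 he2
  rw [hk2, hr2, card_ker_sum_zmod, Nat.card_congr QuotientAddGroup.quotientBot.toEquiv] at c2
  exact c1.symm.trans c2

end Algebra

variable {Y : Scheme.{u}} {n : ℕ}

/-- `H¹(μ_n)` has as many elements as units modulo `n` times `n`-torsion classes. -/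
theorem card_H_one_mu (hS : (EtSix.kummerSC Y n).ShortExact) :
    Nat.card (EtCoh.H Y (EtCoh.mu Y n) 1) =
      Nat.card (Additive Γ(Y, ⊤)ˣ ⧸ (nsmulAddMonoidHom n : Additive Γ(Y, ⊤)ˣ →+ _).range) *
        Nat.card (nsmulAddMonoidHom n : Additive (PicLoc.PicSet Y) →+ _).ker := by
  obtain ⟨eP⟩ := Groth.Agent.H05EGA4.EtH90.nonempty_addEquiv Y
  let E := Sheaf.H.equiv₀ (EtCoh.Gm Y) (EtCore.topIsTerminal Y)
  let sU : Additive Γ(Y, ⊤)ˣ →+ EtCoh.H Y (EtCoh.Gm Y) 0 :=
    E.symm.toAddMonoidHom.comp (AddMonoidHom.mk'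
      (fun a : Additive Γ(Y, ⊤)ˣ => Groth.Agent.H18Et.MuConst.sec (U := EtCoh.top Y) (Additive.toMul a))
      fun a b => rfl)
  have hsU : Function.Bijective sU := by
    refine ⟨fun a b h => Additive.toMul.injective
      (Groth.Agent.H18Et.MuConst.sec_injective (U := EtCoh.top Y) (E.symm.injective h)), fun y => ?_⟩
    obtain ⟨v₀, hv⟩ := Groth.Agent.H18Et.MuConst.sec_surjective (E y)
    obtain ⟨v, rfl⟩ : ∃ v : Γ(Y, ⊤)ˣ, (v : Γ((EtCoh.top Y).left, ⊤)ˣ) = v₀ := ⟨v₀, rfl⟩
    exact ⟨Additive.ofMul v, E.injective ((E.apply_symm_apply _).trans hv)⟩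
  let f : Additive Γ(Y, ⊤)ˣ →+ EtCoh.H Y (EtCoh.mu Y n) 1 := (hS.extClass.postcomp _ (zero_add 1)).comp sU
  let g : EtCoh.H Y (EtCoh.mu Y n) 1 →+ Additive (PicLoc.PicSet Y) :=
    eP.symm.toAddMonoidHom.comp ((Ext.mk₀ (EtCoh.muι Y n)).postcomp _ (add_zero 1))
  have hkf : f.ker = (nsmulAddMonoidHom n : Additive Γ(Y, ⊤)ˣ →+ _).range := by
    ext a
    constructor
    · intro h
      obtain ⟨z, hz⟩ := Ext.covariant_sequence_exact₃ _ hS (sU a) (zero_add 1) h
      obtain ⟨b, rfl⟩ := hsU.2 z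
      exact ⟨b, hsU.1 (((map_nsmul sU n b).trans (hpw' n 0 _).symm).trans hz)⟩
    · rintro ⟨b, rfl⟩
      show (sU (n • b)).comp hS.extClass (zero_add 1) = 0
      rw [map_nsmul]
      exact delta_nsmul hS (zero_add 1) _
  have hex : g.ker = f.range := by
    ext x
    constructor
    · intro h
      obtain ⟨y, hy⟩ := Ext.covariant_sequence_exact₁ _ hS x
        (eP.symm.injective (h.trans (map_zero eP.symm).symm)) (zero_add 1)
      obtain ⟨a, rfl⟩ := hsU.2 y
      exact ⟨a, hy⟩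
    · rintro ⟨a, rfl⟩
      refine (congrArg eP.symm ?_).trans (map_zero eP.symm)
      show ((sU a).comp hS.extClass (zero_add 1)).comp (Ext.mk₀ (EtCoh.muι Y n)) (add_zero 1) = 0
      refine (Ext.comp_assoc _ _ _ (zero_add 1) (add_zero 1) (by omega)).trans ?_
      exact (congrArg (fun w => Ext.comp (sU a) w (zero_add 1)) hS.extClass_comp).trans (Ext.comp_zero _ _ _ _ _)
  have hrg : g.range = (nsmulAddMonoidHom n : Additive (PicLoc.PicSet Y) →+ _).ker := by
    ext c
    constructor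
    · rintro ⟨x, rfl⟩
      show n • eP.symm _ = 0
      rw [← map_nsmul]
      exact (congrArg eP.symm (muι_comp_nsmul n 1 x)).trans (map_zero eP.symm)
    · intro hc
      obtain ⟨x, hx⟩ := Ext.covariant_sequence_exact₂ _ hS (eP c) (by
        refine (hpw' n 1 (eP c)).trans ?_
        rw [← map_nsmul, show n • c = 0 from hc, map_zero]
        rfl)
      exact ⟨x, (congrArg eP.symm hx).trans (eP.symm_apply_apply c)⟩
  rw [card_eq_mul_of_exact f g hex, hkf, hrg]

/-- `H¹` with coefficients `ℤ/N` is free when the counts are right. -/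
theorem nonempty_H_one_const_free (N s : ℕ) (hN : 0 < N)
    (h0 : ∀ m, m ∣ N → Nat.card (EtCoh.H Y (EtCoh.const Y (ZMod m)) 0) = m)
    (h1 : ∀ m, m ∣ N → Nat.card (EtCoh.H Y (EtCoh.const Y (ZMod m)) 1) = m ^ s) :
    Nonempty (EtCoh.H Y (EtCoh.const Y (ZMod N)) 1 ≃+ (Fin s → ZMod N)) := by
  let M := EtCoh.H Y (EtCoh.const Y (ZMod N)) 1
  -- the two maps attached to a factorisation
  have key : ∀ a b : ℕ, a * b = N → ∃ (i : ZMod a →+ ZMod N) (p : ZMod N →+ ZMod b),
      (∀ x : ℤ, i (x : ZMod a) = ((b : ℤ) * x : ℤ)) ∧ (∀ x : ℤ, p (x : ZMod N) = (x : ZMod b)) ∧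
      Function.Injective ((Ext.mk₀ (constMap (X := Y) i)).postcomp _ (add_zero 1) : EtCoh.H Y _ 1 →+ _) ∧
      ∀ x : M, x.comp (Ext.mk₀ (constMap (X := Y) p)) (add_zero 1) = 0 →
        ∃ y : EtCoh.H Y (EtCoh.const Y (ZMod a)) 1, y.comp (Ext.mk₀ (constMap (X := Y) i)) (add_zero 1) = x := fun a b hab => by
    have hbN : b ∣ N := ⟨a, by rw [← hab, mul_comm]⟩
    have haN : a ∣ N := ⟨b, hab.symm⟩
    haveI : NeZero b := ⟨fun h => hN.ne' (by rw [← hab, h, mul_zero])⟩
    let i : ZMod a →+ ZMod N := ZMod.lift a ⟨(Int.castAddHom (ZMod N)).comp (AddMonoidHom.mulLeft (b : ℤ)), by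
      show ((b : ℤ) * (a : ℤ) : ℤ) = (0 : ZMod N)
      rw [ZMod.intCast_zmod_eq_zero_iff_dvd, ← hab, Nat.cast_mul, mul_comm]⟩
    let p : ZMod N →+ ZMod b := (ZMod.castHom hbN (ZMod b)).toAddMonoidHom
    have hix : ∀ x : ℤ, i (x : ZMod a) = ((b : ℤ) * x : ℤ) := fun x => ZMod.lift_coe _ _ _
    have hpx : ∀ x : ℤ, p (x : ZMod N) = (x : ZMod b) := fun x => map_intCast (ZMod.castHom hbN (ZMod b)) x
    have hi : Function.Injective i := (ZMod.lift_injective _).2 fun x hx => by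
      have h := (ZMod.intCast_zmod_eq_zero_iff_dvd ((b : ℤ) * x) N).1 hx
      rw [← hab, Nat.cast_mul, mul_comm (a : ℤ)] at h
      exact (ZMod.intCast_zmod_eq_zero_iff_dvd x a).2
        (Int.dvd_of_mul_dvd_mul_left (Nat.cast_ne_zero.2 (NeZero.ne b)) h)
    have hex : Function.Exact i p := fun y => by
      obtain ⟨y, rfl⟩ := ZMod.intCast_surjective y
      rw [hpx, ZMod.intCast_zmod_eq_zero_iff_dvd]
      constructor
      · rintro ⟨c, hc⟩; exact ⟨(c : ZMod a), by rw [hix, hc]⟩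
      · rintro ⟨x, hx⟩
        obtain ⟨x, rfl⟩ := ZMod.intCast_surjective x
        rw [hix, ← sub_eq_zero, ← Int.cast_sub, ZMod.intCast_zmod_eq_zero_iff_dvd] at hx
        have h2 := (Int.natCast_dvd_natCast.2 hbN).trans hx
        have h3 := dvd_sub (dvd_mul_right (b : ℤ) x) h2
        rwa [sub_sub_cancel] at h3
    obtain ⟨w, hS⟩ := constMap_shortExact (X := Y) i p hi (fun z => ⟨((ZMod.intCast_surjective z).choose : ZMod N),
      (hpx _).trans (ZMod.intCast_surjective z).choose_spec⟩) hex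
    -- degree zero is surjective
    have hsurj : Function.Surjective ((Ext.mk₀ (constMap (X := Y) p)).postcomp _ (add_zero 0) :
        EtCoh.H Y _ 0 →+ EtCoh.H Y _ 0) := by
      haveI : Mono (constMap (X := Y) i) := hS.mono_f
      have hcard := card_eq_mul_of_exact
        ((Ext.mk₀ (constMap (X := Y) i)).postcomp _ (add_zero 0) : EtCoh.H Y _ 0 →+ _)
        ((Ext.mk₀ (constMap (X := Y) p)).postcomp _ (add_zero 0)) (by
          ext x
          refine ⟨fun h => Ext.covariant_sequence_exact₂ _ hS x h, ?_⟩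
          rintro ⟨y, rfl⟩
          refine (Ext.comp_assoc _ _ _ (add_zero 0) (add_zero 0) (by omega)).trans ?_
          rw [Ext.mk₀_comp_mk₀, w, Ext.mk₀_zero, Ext.comp_zero])
      rw [(AddMonoidHom.ker_eq_bot_iff _).2 (injective_H_zero_of_mono _),
        Nat.card_congr QuotientAddGroup.quotientBot.toEquiv, h0 N dvd_rfl, h0 a haN] at hcard
      haveI : Finite (EtCoh.H Y (EtCoh.const Y (ZMod b)) 0) :=
        Nat.finite_of_card_ne_zero (by rw [h0 b hbN]; exact NeZero.ne b)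
      refine AddMonoidHom.range_eq_top.1 ((AddSubgroup.eq_top_iff' _).2 ?_)
      have ha0 : 0 < a := Nat.pos_of_ne_zero fun h => hN.ne' (by rw [← hab, h, zero_mul])
      have htop := AddSubgroup.eq_top_of_card_eq _ (show Nat.card _ = Nat.card _ from
        (Nat.eq_of_mul_eq_mul_left ha0 (hcard.symm.trans hab.symm)).trans (h0 b hbN).symm)
      exact fun x => htop ▸ AddSubgroup.mem_top x
    refine ⟨i, p, hix, hpx, (injective_iff_map_eq_zero _).2 fun x hx => ?_,
      fun x hx => Ext.covariant_sequence_exact₂ _ hS x hx⟩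
    obtain ⟨y, hy⟩ := Ext.covariant_sequence_exact₁ _ hS x hx (zero_add 1)
    obtain ⟨z, hz⟩ := hsurj y
    rw [← hy, ← hz]
    refine (Ext.comp_assoc z (Ext.mk₀ (constMap (X := Y) p)) hS.extClass (add_zero 0) (zero_add 1) (by omega)).trans ?_
    exact (congrArg (fun w' => Ext.comp z w' (zero_add 1)) hS.comp_extClass).trans (Ext.comp_zero _ _ _ _ _)
  have hkill : ∀ (m : ℕ) (x : EtCoh.H Y (EtCoh.const Y (ZMod m)) 1), m • x = 0 := fun m x => by
    have h := H1DFun.killedBy_const (Z := Y) (ZMod m) m fun z => by simp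
    rw [← Ext.comp_mk₀_id x, ← Ext.bilinearComp_apply_apply (h := add_zero 1), ← map_nsmul,
      ← Ext.addEquiv₀_symm_apply, ← map_nsmul, h, map_zero, map_zero]
  -- torsion in `H¹`
  have hcard : ∀ m, m ∣ N → Nat.card (Groth.Agent.H25AbCube.GroupTorsion.tors (Multiplicative M) m) = m ^ s := by
    rintro m ⟨e, he⟩
    obtain ⟨i, p, hi, hp, hinj, hexact⟩ := key m e he.symm
    obtain ⟨i', p', hi', -, hinj', -⟩ := key e m (by rw [mul_comm]; exact he.symm)
    have hcomp : constMap (X := Y) p ≫ constMap i' = m • 𝟙 (EtCoh.const Y (ZMod N)) := by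
      rw [constMap_comp, ← constMap_nsmul_id (ZMod N) m]
      congr 1
      refine AddMonoidHom.ext fun z => ?_
      obtain ⟨z, rfl⟩ := ZMod.intCast_surjective z
      show i' (p (z : ZMod N)) = m • (z : ZMod N)
      rw [hp, hi', Int.cast_mul, Int.cast_natCast, nsmul_eq_mul]
    have hm : ∀ x : M, m • x = (x.comp (Ext.mk₀ (constMap (X := Y) p)) (add_zero 1)).comp
        (Ext.mk₀ (constMap (X := Y) i')) (add_zero 1) := fun x => by
      rw [Ext.comp_assoc_of_third_deg_zero, Ext.mk₀_comp_mk₀, hcomp, ← Ext.addEquiv₀_symm_apply,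
        map_nsmul, ← Ext.bilinearComp_apply_apply (h := add_zero 1), map_nsmul, Ext.bilinearComp_apply_apply,
        Ext.addEquiv₀_symm_apply, Ext.comp_mk₀_id]
    let F : EtCoh.H Y (EtCoh.const Y (ZMod m)) 1 →+ M := (Ext.mk₀ (constMap (X := Y) i)).postcomp _ (add_zero 1)
    rw [← h1 m ⟨e, he⟩]
    refine (Nat.card_congr (Equiv.ofBijective
      (fun y => (⟨Multiplicative.ofAdd (F y), ?_⟩ : Groth.Agent.H25AbCube.GroupTorsion.tors (Multiplicative M) m))
      ⟨?_, ?_⟩)).symm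
    · refine Groth.Agent.H25AbCube.GroupTorsion.mem_tors.2 ?_
      rw [← ofAdd_nsmul, ← map_nsmul, hkill m y, map_zero]
      rfl
    · exact fun y y' h => hinj (Multiplicative.ofAdd.injective (congrArg Subtype.val h))
    · rintro ⟨x, hx⟩
      have hx' : m • Multiplicative.toAdd x = 0 := Groth.Agent.H25AbCube.GroupTorsion.mem_tors.1 hx
      rw [hm] at hx'
      obtain ⟨y, hy⟩ := hexact _ (hinj' (hx'.trans (map_zero _).symm))
      exact ⟨y, Subtype.ext (congrArg Multiplicative.ofAdd hy)⟩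
  obtain ⟨eT⟩ := Groth.Agent.H25AbCube.GroupTorsion.nonempty_equiv (G := Multiplicative M) s hN hcard
  let e1 : Multiplicative M ≃* Groth.Agent.H25AbCube.GroupTorsion.tors (Multiplicative M) N :=
    { toFun := fun x => ⟨x, Groth.Agent.H25AbCube.GroupTorsion.mem_tors.2
        (congrArg Multiplicative.ofAdd (hkill N (Multiplicative.toAdd x)))⟩
      invFun := Subtype.val
      left_inv := fun _ => rfl
      right_inv := fun _ => rfl
      map_mul' := fun _ _ => rfl }
  exact ⟨(AddEquiv.additiveMultiplicative M).symm.trans ((MulEquiv.toAdditive (e1.trans eT)).trans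
    (AddEquiv.additiveMultiplicative _))⟩

end Groth.Agent.H05EGA4.EtCl.Fin
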