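import Groth.Agent.H05EGA4.EtCl.Fin.Basic
import Groth.Agent.H05EGA4.EtCl.Dev.CritBase
import Groth.Agent.H1DFun.FiniteConstEmbed
import Groth.Agent.H18Et.Cons.Subsheaf
import Groth.Agent.H18Et.Cons.Compact
import Groth.Agent.H18Et.Cons.PushFinite

/-!
# Finiteness for constructible sheaves from constant coefficients on finite schemes
-/

set_option autoImplicit false
set_option linter.style.haveILetI false
set_option linter.unusedSectionVars false
set_option backward.isDefEq.respectTransparency false
set_option backward.isDefEq.respectTransparency.types false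

universe u

open CategoryTheory CategoryTheory.Limits AlgebraicGeometry Opposite Abelian

namespace Groth.Agent.H05EGA4.EtCl.Fin

open scoped Groth.Agent.H18Et

variable {X : Scheme.{u}}

theorem additive_push {Y : Scheme.{u}} (f : Y ⟶ X) : (EtCoh.push f).Additive :=
  haveI : PreservesFiniteLimits (EtCoh.push f) :=
    (EtCoh.pullPushAdj f).rightAdjoint_preservesLimits.{0, 0}.preservesFiniteLimits
  Functor.additive_of_preserves_binary_products _

theorem constMap_comp {A B C : Type} [AddCommGroup A] [AddCommGroup B] [AddCommGroup C] (f : A →+ B) (g : B →+ C) :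
    constMap (X := X) f ≫ constMap g = constMap (g.comp f) := by
  rw [constMap, constMap, constMap, ← Functor.map_comp]
  congr 1

theorem constMap_nsmul_id (M : Type) [AddCommGroup M] (N : ℕ) :
    constMap (X := X) (nsmulAddMonoidHom N : M →+ M) = N • 𝟙 (EtCoh.const X M) := by
  rw [← CategoryTheory.Functor.map_id, ← Functor.map_nsmul, constMap]
  congr 1

theorem mono_constMap {A B : Type} [AddCommGroup A] [AddCommGroup B] (f : A →+ B) (hf : Function.Injective f) :
    Mono (constMap (X := X) f) := by
  obtain ⟨w, h⟩ := constMap_shortExact (X := X) f (QuotientAddGroup.mk' f.range) hf (QuotientAddGroup.mk'_surjective _)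
    fun y => (QuotientAddGroup.eq_zero_iff y).trans Iff.rfl
  exact h.mono_f

/-- A map killed by `N` into a direct image of a constant sheaf factors through the `N`-torsion coefficients. -/
theorem exists_lift_torsion {Y : Scheme.{u}} (f : Y ⟶ X) (M : Type) [AddCommGroup M] (N : ℕ) {F : EtCoh.Ab X}
    (φ : F ⟶ (EtCoh.push f).obj (EtCoh.const Y M)) (hφ : N • φ = 0) :
    ∃ ψ : F ⟶ (EtCoh.push f).obj (EtCoh.const Y ↥(nsmulAddMonoidHom N : M →+ M).ker),
      ψ ≫ (EtCoh.push f).map (constMap (nsmulAddMonoidHom N : M →+ M).ker.subtype) = φ := by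
  haveI := additive_push f
  haveI : PreservesFiniteLimits (EtCoh.push f) :=
    (EtCoh.pullPushAdj f).rightAdjoint_preservesLimits.{0, 0}.preservesFiniteLimits
  let t : M →+ M := nsmulAddMonoidHom N
  obtain ⟨w, hS⟩ := constMap_shortExact (X := Y) t.ker.subtype t.rangeRestrict Subtype.val_injective
    t.rangeRestrict_surjective fun y => by
      constructor
      · intro hy
        exact ⟨⟨y, congrArg Subtype.val hy⟩, rfl⟩
      · rintro ⟨z, rfl⟩
        exact Subtype.ext z.2
  haveI := hS.mono_f
  let T := (ShortComplex.mk _ _ w).map (EtCoh.push f)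
  have hT : T.Exact := hS.exact.map_of_mono_of_preservesKernel (EtCoh.push f) inferInstance inferInstance
  haveI : Mono T.f := inferInstanceAs (Mono ((EtCoh.push f).map (constMap t.ker.subtype)))
  haveI : Mono ((EtCoh.push f).map (constMap t.range.subtype)) :=
    haveI := mono_constMap (X := Y) t.range.subtype Subtype.val_injective
    inferInstance
  have hz : φ ≫ T.g = 0 := by
    refine (cancel_mono ((EtCoh.push f).map (constMap t.range.subtype))).1 ?_
    show (φ ≫ (EtCoh.push f).map (constMap t.rangeRestrict)) ≫ _ = _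
    rw [Category.assoc, ← Functor.map_comp, constMap_comp, show t.range.subtype.comp t.rangeRestrict = t from rfl,
      constMap_nsmul_id, Functor.map_nsmul, CategoryTheory.Functor.map_id, Preadditive.comp_nsmul, Category.comp_id,
      hφ, zero_comp]
  exact ⟨hT.lift φ hz, hT.lift_f φ hz⟩

theorem isConstructible_const_finite [AlgebraicGeometry.IsNoetherian X] (M : Type) [AddCommGroup M] [Finite M] :
    EtPBC.IsConstructible (EtCoh.const X M) := by
  refine H18Et.Cons.isConstructible_of_pieces _ fun x => ⟨⊤, Dev.cl x, Dev.clι x, inferInstance, trivial, ?_,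
    H18Et.LC.isFiniteLocallyConstant_of_iso (EtCore.pullConst (Dev.clι x) M).symm
      (H18Et.LC.isFiniteLocallyConstant_const _)⟩
  rw [Dev.range_clι, TopologicalSpace.Opens.coe_top, Set.univ_inter]

/-- Finiteness of the cohomology of constructible sheaves killed by `N`, from prime cyclic constant
coefficients on finite schemes. -/
theorem finite_H_constructible [AlgebraicGeometry.IsNoetherian X] (N : ℕ)
    (hc : ∀ (Y : Scheme.{u}) (f : Y ⟶ X), IsFinite f → ∀ ℓ : ℕ, ℓ.Prime → ℓ ∣ N → ∀ q : ℕ,
      Finite (EtCoh.H Y (EtCoh.const Y (ZMod ℓ)) q)) :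
    ∀ (q : ℕ) (F : EtCoh.Ab X), EtPBC.IsConstructible F → N • 𝟙 F = 0 → Finite (EtCoh.H X F q) := by
  intro q
  induction q using Nat.strong_induction_on with
  | _ q ih =>
  intro F hF hN
  obtain ⟨n, Y, f, hf, hfp, M, iM, iF, ι, hι⟩ := H1DFun.exists_mono_finite_const F hF
  haveI := hf; haveI := hfp; haveI := iF; haveI := hι
  let A := fun i => ↥(nsmulAddMonoidHom N : M i →+ M i).ker
  let P : Fin n → EtCoh.Ab X := fun i => (EtCoh.push (f i)).obj (EtCoh.const (Y i) (M i))
  let P' : Fin n → EtCoh.Ab X := fun i => (EtCoh.push (f i)).obj (EtCoh.const (Y i) (A i))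
  have hz : ∀ i, N • (ι ≫ biproduct.π P i) = 0 := fun i => by
    rw [← Preadditive.nsmul_comp, show N • ι = (N • 𝟙 F) ≫ ι by rw [Preadditive.nsmul_comp, Category.id_comp],
      hN, zero_comp, zero_comp]
  choose ψ hψ using fun i => exists_lift_torsion (f i) (M i) N (ι ≫ biproduct.π P i) (hz i)
  let j : F ⟶ ⨁ P' := biproduct.lift ψ
  haveI : Mono j := by
    haveI : Mono (j ≫ biproduct.map fun i => (EtCoh.push (f i)).map
        (constMap (X := Y i) (nsmulAddMonoidHom N : M i →+ M i).ker.subtype)) := by
      rw [show j ≫ biproduct.map (fun i => (EtCoh.push (f i)).map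
        (constMap (X := Y i) (nsmulAddMonoidHom N : M i →+ M i).ker.subtype)) = ι from biproduct.hom_ext _ _ fun i => by
          rw [Category.assoc, biproduct.map_π, biproduct.lift_π_assoc, hψ]]
      exact hι
    exact mono_of_mono j (biproduct.map fun i => (EtCoh.push (f i)).map
      (constMap (X := Y i) (nsmulAddMonoidHom N : M i →+ M i).ker.subtype))
  have hA : ∀ i (x : A i), N • x = 0 := fun i x => Subtype.ext x.2
  have hP : ∀ m, Finite (EtCoh.H X (⨁ P') m) := fun m => finite_H_biproduct P' m fun i =>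
    finite_H_push (f i) _ m (finite_H_const_of_prime N (fun ℓ h1 h2 => hc (Y i) (f i) (hf i) ℓ h1 h2)
      (A i) (hA i) m)
  let S := ShortComplex.mk j (cokernel.π j) (cokernel.condition j)
  have hS : S.ShortExact :=
    { exact := ShortComplex.exact_cokernel _, mono_f := inferInstanceAs (Mono j),
      epi_g := inferInstanceAs (Epi (cokernel.π j)) }
  rcases q with _ | q
  · exact finite_H_zero_of_mono j (hP 0)
  · have hPN : N • 𝟙 (⨁ P') = 0 := biproduct.hom_ext _ _ fun i => by
      haveI := additive_push (f i)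
      rw [Preadditive.nsmul_comp, Category.id_comp, zero_comp, ← Category.comp_id (biproduct.π P' i),
        ← Preadditive.comp_nsmul, show 𝟙 (P' i) = (EtCoh.push (f i)).map (𝟙 _) from (CategoryTheory.Functor.map_id _ _).symm,
        ← Functor.map_nsmul, H1DFun.killedBy_const (A i) N (hA i), Functor.map_zero, comp_zero]
    have hQN : N • 𝟙 (cokernel j) = 0 := (cancel_epi (cokernel.π j)).1 (by
      rw [comp_zero, Preadditive.comp_nsmul, Category.comp_id, show N • cokernel.π j = (N • 𝟙 (⨁ P')) ≫ cokernel.π j by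
        rw [Preadditive.nsmul_comp, Category.id_comp], hPN, zero_comp])
    have hQc : EtPBC.IsConstructible (cokernel j) := by
      refine H18Et.Cons.isConstructible_quotient (cokernel.π j) (H18Et.Cons.isConstructible_biproduct P' fun i => ?_)
      haveI := Dev.isNoetherian_of_finite (f i)
      exact H18Et.Cons.isConstructible_push_finite (f i) _ (isConstructible_const_finite (A i))
    exact finite_H_left hS q (ih q (Nat.lt_succ_self q) _ hQc hQN) (hP (q + 1))

/-- A sheaf killed by a positive integer and locally by integers invertible on the base is killed by one invertible there. -/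
theorem exists_invertible_killing {S : Scheme.{u}} (F : EtCoh.Ab X) (N : ℕ) (hN : 0 < N) (hk : EtCoh.KilledBy N F)
    (ht : EtPBC.IsTorsionInvertibleOn S F) :
    ∃ m : ℕ, 0 < m ∧ (∀ ℓ : ℕ, ℓ.Prime → ℓ ∣ m → IsUnit (ℓ : Γ(S, ⊤))) ∧ m • 𝟙 F = 0 := by
  classical
  let D : Finset ℕ := (N.divisors).filter fun d : ℕ => IsUnit (d : Γ(S, ⊤))
  have hD : ∀ d ∈ D, IsUnit (d : Γ(S, ⊤)) := fun d hd => (Finset.mem_filter.1 hd).2
  refine ⟨D.prod id, Finset.prod_pos fun d hd => Nat.pos_of_mem_divisors (Finset.mem_filter.1 hd).1, ?_, ?_⟩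
  · intro ℓ hℓ hdvd
    obtain ⟨d, hd, hld⟩ := (Nat.Prime.prime hℓ).exists_mem_finset_dvd hdvd
    exact isUnit_of_dvd_unit (Nat.cast_dvd_cast hld) (hD d hd)
  · refine H9GalCoh.Dev.nsmul_of_killedBy fun U s => H18Et.sect_ext _ _ fun Ω _ _ ξ x => ?_
    obtain ⟨V, g, n, ⟨v, hv⟩, hn, hns⟩ := ht U s (H18Et.ptOf x)
    obtain ⟨y, hy⟩ := H18Et.exists_fiber_lift g x v hv
    rw [← hy, ← H18Et.ConstSheaf.germ_map, ← H18Et.ConstSheaf.germ_map, map_nsmul, map_zero]
    refine congrArg _ ?_
    have hg : Nat.gcd n N • F.obj.map g.op s = 0 := by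
      rw [← addOrderOf_dvd_iff_nsmul_eq_zero]
      exact Nat.dvd_gcd (addOrderOf_dvd_iff_nsmul_eq_zero.2 hns) (addOrderOf_dvd_iff_nsmul_eq_zero.2 (hk V _))
    have hmem : Nat.gcd n N ∈ D := Finset.mem_filter.2
      ⟨Nat.mem_divisors.2 ⟨Nat.gcd_dvd_right n N, hN.ne'⟩,
        isUnit_of_dvd_unit (Nat.cast_dvd_cast (Nat.gcd_dvd_left n N)) hn⟩
    exact addOrderOf_dvd_iff_nsmul_eq_zero.1
      ((addOrderOf_dvd_iff_nsmul_eq_zero.2 hg).trans (Finset.dvd_prod_of_mem id hmem))

end Groth.Agent.H05EGA4.EtCl.Fin
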