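import Groth.Agent.H05EGA4.EtCl.Fin.PicProper
import Groth.Agent.S15922
import Groth.Agent.H28RR.Fibre
import Groth.Agent.H29Blow.IdealMod

/-!
# The degree on the Picard group of a smooth proper curve
-/

set_option autoImplicit false
set_option linter.style.haveILetI false
set_option linter.unusedSectionVars false
set_option backward.isDefEq.respectTransparency.types false

noncomputable section

universe u

open CategoryTheory CategoryTheory.Limits AlgebraicGeometry Opposite

namespace Groth.Agent.H05EGA4.EtCl.Fin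

attribute [local instance] Groth.Agent.H28Vert.picLaw

open Groth.Agent.H29Jac
open Groth.Agent.H12Pic.PicCurve

variable {k : Type u} [Field k] [IsAlgClosed k] {X : Scheme.{u}} [X.Over (Spec (CommRingCat.of k))]

/-- The degree: its kernel is divisible, and every closed point gives a class of degree one which is trivial
away from the point. -/
theorem exists_degree (hX : Curve.IsSmoothProperCurve k X (X ↘ Spec (CommRingCat.of k))) :
    ∃ δ : Additive (PicLoc.PicSet X) →+ ℤ, (∀ c, δ c = 0 → ∀ n : ℕ, 0 < n → ∃ b, n • b = c) ∧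
      ∀ P : X, IsClosed ({P} : Set X) → ∃ c, δ c = 1 ∧ ∀ U : X.Opens, P ∉ U →
        PicGrp.pullHom U.ι (H28Vert.pullMul U.ι) (Additive.toMul c) = 1 := by
  classical
  let f := X ↘ Spec (CommRingCat.of k)
  obtain ⟨hp, hs, hint, hdim⟩ := id hX
  haveI := hp; haveI := hs; haveI := hint
  haveI : SmoothOfRelativeDimension 1 f := smoothRelDim_curve hX
  obtain ⟨σ, hσ⟩ := exists_section k f hX
  haveI : GeometricallyConnected f := H28NT.geometricallyConnected_of_section f σ hσ
  obtain ⟨_, _, _⟩ := family_facts f (ptObj k)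
  let Y := PicF.XT f (ptObj k)
  letI : Y.Over (Spec (CommRingCat.of k)) := ⟨PicF.XTproj f (ptObj k)⟩
  haveI : IsProper (Y ↘ Spec (CommRingCat.of k)) := ‹IsProper (PicF.XTproj f (ptObj k))›
  haveI : SmoothOfRelativeDimension 1 (Y ↘ Spec (CommRingCat.of k)) :=
    ‹SmoothOfRelativeDimension 1 (PicF.XTproj f (ptObj k))›
  haveI : GeometricallyConnected (Y ↘ Spec (CommRingCat.of k)) :=
    ‹GeometricallyConnected (PicF.XTproj f (ptObj k))›
  haveI : Smooth (Y ↘ Spec (CommRingCat.of k)) := SmoothOfRelativeDimension.smooth 1 _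
  obtain ⟨hYi, hYd⟩ := curve_facts k Y
  haveI := hYi
  let q : Y ⟶ X := pullback.fst f (ptObj k).hom
  choose mod hmod hmodc using fun c : PicLoc.PicSet Y => PicGrp.exists_eq_cls c
  have hd : ∀ {L : Y.Modules} (hL : PicF.IsInvertible L),
      Curv2.deg k Y (mod (PicGrp.cls L hL)) 1 = Curv2.deg k Y L 1 := fun {L} hL => by
    obtain ⟨e⟩ := (PicGrp.cls_eq_cls_iff _ hL).1 (hmodc (PicGrp.cls L hL)).symm
    exact H29RR.deg_congr (k := k) e
  let δY : Additive (PicLoc.PicSet Y) →+ ℤ := AddMonoidHom.mk' (fun c => Curv2.deg k Y (mod (Additive.toMul c)) 1)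
    fun a b => by
      have h := hd (H11Ample.isInvertible_tensor (hmod (Additive.toMul a)) (hmod (Additive.toMul b)))
      rw [H29RR.deg_tensor (k := k) hYd.le (hmod _) (hmod _)] at h
      rw [← h]
      refine congrArg (fun c => Curv2.deg k Y (mod c) 1) (Subtype.ext ?_)
      refine Eq.trans ?_ (PicGrp.cls_mul_cls_val (hmod (Additive.toMul a)) (hmod (Additive.toMul b)))
      rw [← hmodc, ← hmodc]
      rfl
  let toY := PicGrp.pullHom q (H28Vert.pullMul q)
  let toX := PicGrp.pullHom (inv q) (H28Vert.pullMul (inv q))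
  have hXY : ∀ c, toX (toY c) = c := fun c => by
    rw [← PicGrp.pullHom_comp_apply (inv q) q _ _ (H28Vert.pullMul _)]
    exact Subtype.ext (by rw [PicGrp.pullHom_apply_val, IsIso.inv_hom_id, PicLoc.pullCl_id])
  have hYX : ∀ c, toY (toX c) = c := fun c => by
    rw [← PicGrp.pullHom_comp_apply q (inv q) _ _ (H28Vert.pullMul _)]
    exact Subtype.ext (by rw [PicGrp.pullHom_apply_val, IsIso.hom_inv_id, PicLoc.pullCl_id])
  refine ⟨δY.comp (MonoidHom.toAdditive toY), fun c hc n hn => ?_, fun P hP => ?_⟩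
  · obtain ⟨M, hMi, ⟨e⟩⟩ := exists_tensorPow_iso hX hn (mod (toY (Additive.toMul c))) (hmod _) hc
    refine ⟨Additive.ofMul (toX (PicGrp.cls M hMi)), Additive.toMul.injective ?_⟩
    rw [toMul_nsmul, toMul_ofMul, ← map_pow, ← hXY (Additive.toMul c)]
    refine congrArg toX ?_
    rw [hmodc (toY (Additive.toMul c))]
    refine Subtype.ext ?_
    rw [PicGrp.cls_pow_val hMi n, PicGrp.cls_val]
    exact (PicGrp.cl_eq_cl_iff _ _).2 ⟨e⟩
  · let p := (inv q) P
    have hp' : IsClosed ({p} : Set Y) := by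
      rw [← Set.image_singleton]
      exact (inv q).homeomorph.isClosedMap _ hP
    let I := Scheme.IdealSheafData.vanishingIdeal (X := Y) ⟨{p}, hp'⟩
    have hI : BlowUp.IsEffCartierIdeal I := H28RR.isEffCartier_point k hYd hp'
    have hIi : PicF.IsInvertible (ClSub.idealMod I) := H29Blow.isInvertible_of_isEffCartierIdeal I hI
    have hdeg : Curv2.deg k Y (ClSub.idealMod I) 1 = -1 := (S15922.result k Y (fun Z hZ => by
      rw [irreducibleComponents_eq_singleton, Set.mem_singleton_iff] at hZ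
      rw [hZ, ← hYd]
      exact (Homeomorph.Set.univ Y).isHomeomorph.topologicalKrullDim_eq) p hp').2.2
    let cY : Additive (PicLoc.PicSet Y) := -Additive.ofMul (PicGrp.cls (ClSub.idealMod I) hIi)
    refine ⟨Additive.ofMul (toX (Additive.toMul cY)), ?_, fun U hU => ?_⟩
    · show δY (Additive.ofMul (toY (toX (Additive.toMul cY)))) = 1
      rw [hYX, ofMul_toMul, map_neg]
      show -(Curv2.deg k Y (mod (PicGrp.cls (ClSub.idealMod I) hIi)) 1) = 1
      rw [hd hIi, hdeg, neg_neg]
    · rw [toMul_ofMul, toMul_neg, toMul_ofMul, map_inv, map_inv, inv_eq_one,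
        ← PicGrp.pullHom_comp_apply U.ι (inv q) _ _ (H28Vert.pullMul _), PicGrp.pullHom_cls, PicGrp.cls_eq_one_iff]
      refine H28Vert.nonempty_pullback_idealMod (U.ι ≫ inv q) hI fun u hu => hU ?_
      have h1 : (inv q) (U.ι u) ∈ ({p} : Set Y) := by
        rw [← Scheme.Hom.comp_apply]
        have h2 : (U.ι ≫ inv q) u ∈ (I.support : Set Y) := hu
        rwa [Scheme.IdealSheafData.coe_support_vanishingIdeal] at h2
      rw [← (inv q).homeomorph.injective (Set.mem_singleton_iff.1 h1)]
      exact u.2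

/-- The Picard group of a punctured smooth proper curve is divisible. -/
theorem exists_nsmul_eq_pic_open [AlgebraicGeometry.IsNoetherian X]
    (hX : Curve.IsSmoothProperCurve k X (X ↘ Spec (CommRingCat.of k))) (U : X.Opens) (P : X)
    (hP : IsClosed ({P} : Set X)) (hPU : P ∉ U)
    (hsurj : Function.Surjective (PicGrp.pullHom U.ι (H28Vert.pullMul U.ι))) (n : ℕ) (hn : 0 < n)
    (c : Additive (PicLoc.PicSet (U : Scheme.{u}))) : ∃ b, n • b = c := by
  obtain ⟨δ, hδ, hδP⟩ := exists_degree hX
  obtain ⟨e, he, heU⟩ := hδP P hP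
  obtain ⟨a, ha⟩ := hsurj (Additive.toMul c)
  obtain ⟨b, hb⟩ := hδ (Additive.ofMul a - δ (Additive.ofMul a) • e)
    (by rw [map_sub, map_zsmul, he, smul_eq_mul, mul_one, sub_self]) n hn
  refine ⟨Additive.ofMul (PicGrp.pullHom U.ι (H28Vert.pullMul U.ι) (Additive.toMul b)), ?_⟩
  apply Additive.toMul.injective
  rw [toMul_nsmul, toMul_ofMul, ← map_pow, ← toMul_nsmul, hb, toMul_sub, toMul_ofMul, toMul_zsmul, map_div,
    map_zpow, heU U hPU, one_zpow, div_one, ha]

end Groth.Agent.H05EGA4.EtCl.Fin
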