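import Groth.Agent.H05EGA4.EtCl.Fin.Principal
import Groth.Agent.H05EGA4.EtCl.Fin.PicDegree
import Groth.Agent.H28Neron.NormalSmooth
import Groth.Agent.H06Norm.Criterion
import Groth.Agent.LeadBC.GeomConn

/-!
# The exact sequence of units, divisors at infinity and Picard groups
-/

set_option autoImplicit false
set_option linter.style.haveILetI false
set_option linter.unusedSectionVars false
set_option backward.isDefEq.respectTransparency.types false

universe u

open CategoryTheory CategoryTheory.Limits AlgebraicGeometry Opposite TopologicalSpace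

namespace Groth.Agent.H05EGA4.EtCl.Fin

open Groth.Agent.H29Ref

attribute [local instance] Groth.Agent.H28Vert.picLaw

variable {k : Type u} [Field k] [IsAlgClosed k] {X : Scheme.{u}} [X.Over (Spec (CommRingCat.of k))]

/-- The degree on classes: its kernel is divisible and the ideals of points have degree minus one. -/
theorem exists_degree_ideal (hX : Curve.IsSmoothProperCurve k X (X ↘ Spec (CommRingCat.of k))) :
    ∃ δ : Additive (PicLoc.PicSet X) →+ ℤ, (∀ c, δ c = 0 → ∀ n : ℕ, 0 < n → ∃ b, n • b = c) ∧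
      ∀ (P : X) (hP : IsClosed ({P} : Set X))
        (hI : PicF.IsInvertible (ClSub.idealMod (Scheme.IdealSheafData.vanishingIdeal ⟨{P}, hP⟩))),
        δ (Additive.ofMul (PicGrp.cls _ hI)) = -1 := by
  obtain ⟨hp, hs, hint, hdim⟩ := id hX
  haveI := hp; haveI := hs; haveI := hint
  choose mod hmod hmodc using fun c : PicLoc.PicSet X => PicGrp.exists_eq_cls c
  have hd : ∀ {L : X.Modules} (hL : PicF.IsInvertible L),
      Curv2.deg k X (mod (PicGrp.cls L hL)) 1 = Curv2.deg k X L 1 := fun {L} hL => by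
    obtain ⟨e⟩ := (PicGrp.cls_eq_cls_iff _ hL).1 (hmodc (PicGrp.cls L hL)).symm
    exact H29RR.deg_congr (k := k) e
  let δ : Additive (PicLoc.PicSet X) →+ ℤ := AddMonoidHom.mk' (fun c => Curv2.deg k X (mod (Additive.toMul c)) 1)
    fun a b => by
      have h := hd (H11Ample.isInvertible_tensor (hmod (Additive.toMul a)) (hmod (Additive.toMul b)))
      rw [H29RR.deg_tensor (k := k) hdim.le (hmod _) (hmod _)] at h
      rw [← h]
      refine congrArg (fun c => Curv2.deg k X (mod c) 1) (Subtype.ext ?_)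
      refine Eq.trans ?_ (PicGrp.cls_mul_cls_val (hmod (Additive.toMul a)) (hmod (Additive.toMul b)))
      rw [← hmodc, ← hmodc]
      rfl
  have hpt : ∀ (P : X) (hP : IsClosed ({P} : Set X))
      (hI : PicF.IsInvertible (ClSub.idealMod (Scheme.IdealSheafData.vanishingIdeal ⟨{P}, hP⟩))),
      δ (Additive.ofMul (PicGrp.cls _ hI)) = -1 := fun P hP hI => by
    show Curv2.deg k X (mod (PicGrp.cls _ hI)) 1 = -1
    rw [hd hI]
    refine (S15922.result k X (fun Z hZ => ?_) P hP).2.2
    rw [irreducibleComponents_eq_singleton, Set.mem_singleton_iff] at hZ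
    rw [hZ, ← hdim]
    exact (Homeomorph.Set.univ X).isHomeomorph.topologicalKrullDim_eq
  refine ⟨δ, fun c hc n hn => ?_, hpt⟩
  obtain ⟨δ₀, hδ₀, hδP⟩ := exists_degree hX
  haveI : AlgebraicGeometry.IsNoetherian X := H29RR.isNoetherian_of_proper (k := k) (X := X)
  haveI : JacobsonSpace X := LocallyOfFiniteType.jacobsonSpace (X ↘ Spec (CommRingCat.of k))
  obtain ⟨P, -, hP⟩ := nonempty_inter_closedPoints (Set.univ_nonempty (α := X)) isClosed_univ.isLocallyClosed
  obtain ⟨e, he, -⟩ := hδP P hP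
  -- `δ` vanishes on the divisible kernel of `δ₀`
  have hvan : ∀ a, δ₀ a = 0 → δ a = 0 := fun a ha => by
    by_contra hne
    obtain ⟨b, hb⟩ := hδ₀ a ha ((δ a).natAbs + 1) (Nat.succ_pos _)
    have h1 : (((δ a).natAbs + 1 : ℕ) : ℤ) ∣ δ a := ⟨δ b, ((congrArg δ hb).symm.trans (map_nsmul δ _ _)).trans (nsmul_eq_mul _ _)⟩
    have h2 := Int.natAbs_dvd_natAbs.2 h1
    rw [Int.natAbs_natCast] at h2
    exact absurd (Nat.le_of_dvd (Int.natAbs_pos.2 hne) h2) (by omega)
  have key : ∀ a, δ a = δ₀ a * δ e := fun a => by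
    have h := hvan (a - δ₀ a • e) (by rw [map_sub, map_zsmul, he, smul_eq_mul, mul_one, sub_self])
    rwa [map_sub, map_zsmul, smul_eq_mul, sub_eq_zero] at h
  have he0 : δ e ≠ 0 := fun h0 => by
    have hI := H29Blow.isInvertible_of_isEffCartierIdeal _ (H28RR.isEffCartier_point k hdim hP)
    have h1 := hpt P hP hI
    rw [key, h0, mul_zero] at h1
    exact absurd h1 (by norm_num)
  exact hδ₀ c (by rcases mul_eq_zero.1 ((key c).symm.trans hc) with h | h; exacts [h, absurd h he0]) n hn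

theorem coheight_eq_one {Y : Scheme.{u}} [IsIntegral Y] [AlgebraicGeometry.IsNoetherian Y]
    (hdim : topologicalKrullDim Y ≤ 1) {x : Y} (hx : x ≠ genericPoint Y) : Order.coheight x = 1 := by
  have h1 : (Order.coheight x : WithBot ℕ∞) ≤ 1 := by
    rw [← ringKrullDim_stalk_eq_coheight]
    exact (H8Props.FlatDimOneBase.ringKrullDim_stalk_le Y x).trans hdim
  refine le_antisymm (WithBot.coe_le_coe.1 h1) (Order.one_le_iff_pos.2 (pos_iff_ne_zero.2 fun h0 => hx ?_))
  letI := specializationOrder Y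
  have hm : IsMax x := Order.coheight_eq_zero.1 h0
  exact le_antisymm ((genericPoint_spec Y).specializes trivial) (hm ((genericPoint_spec Y).specializes trivial))

theorem stalkIdeal_vanishingIdeal_point {Y : Scheme.{u}} [IsLocallyNoetherian Y] {y : Y}
    (hy : IsClosed ({y} : Set Y)) :
    IntMult.stalkIdeal (Scheme.IdealSheafData.vanishingIdeal ⟨{y}, hy⟩) y = IsLocalRing.maximalIdeal _ := by
  obtain ⟨V, hV, hyV, -⟩ := exists_isAffineOpen_mem_and_subset (X := Y) (x := y) (U := ⊤) trivial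
  set q := hV.primeIdealOf ⟨y, hyV⟩ with hq
  have hpre : hV.fromSpec ⁻¹' (({y} : Set Y)) = {q} := by
    ext w
    simp only [Set.mem_preimage, Set.mem_singleton_iff]
    exact ⟨fun h => hV.fromSpec.isOpenEmbedding.injective (h.trans (hV.fromSpec_primeIdealOf ⟨y, hyV⟩).symm),
      fun h => h ▸ hV.fromSpec_primeIdealOf ⟨y, hyV⟩⟩
  letI := TopCat.Presheaf.algebra_section_stalk Y.presheaf (⟨y, hyV⟩ : V)
  haveI := hV.isLocalization_stalk ⟨y, hyV⟩
  rw [H29Ref.stalkIdeal_eq _ y ⟨V, hV⟩ hyV, Scheme.IdealSheafData.vanishingIdeal_ideal]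
  show ((PrimeSpectrum.vanishingIdeal (hV.fromSpec ⁻¹' {y})).map (algebraMap Γ(Y, V) (Y.presheaf.stalk y))) = _
  erw [hpre, PrimeSpectrum.vanishingIdeal_singleton]
  exact IsLocalization.AtPrime.map_eq_maximalIdeal q.asIdeal (Y.presheaf.stalk y)

/-- Units, divisors at the missing points and the two Picard groups. -/
theorem exists_divisor_sequence [AlgebraicGeometry.IsNoetherian X] [IsIntegral X]
    (hX : Curve.IsSmoothProperCurve k X (X ↘ Spec (CommRingCat.of k))) (U : X.Opens) (hU : genericPoint X ∈ U)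
    [Fintype ↥((U : Set X)ᶜ)] :
    ∃ (δ : Additive (PicLoc.PicSet X) →+ ℤ) (ψ : (↥((U : Set X)ᶜ) → ℤ) →+ Additive (PicLoc.PicSet X))
      (φ : Additive Γ(X, U)ˣ →+ (↥((U : Set X)ᶜ) → ℤ)),
      (∀ c, δ c = 0 → ∀ n : ℕ, 0 < n → ∃ b, n • b = c) ∧ (∀ D, δ (ψ D) = ∑ s, D s) ∧
      Function.Surjective (resPic U) ∧ ψ.range = (resPic U).ker ∧ φ.range = ψ.ker ∧
      ∀ a, φ a = 0 → ∀ n : ℕ, 0 < n → ∃ b, n • b = a := by
  classical
  obtain ⟨hp, hs, -, hdim⟩ := id hX
  haveI := hp; haveI := hs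
  let f := X ↘ Spec (CommRingCat.of k)
  have hnorm : Pi1.IsNormalScheme X := H28Neron.isNormalScheme_of_smooth f
    (H06Norm.isNormalScheme_Spec_isField _ (Field.toIsField k))
  obtain ⟨δ, hδ, hδI⟩ := exists_degree_ideal hX
  let S := ↥((U : Set X)ᶜ)
  have hne : ∀ s : S, (s : X) ≠ genericPoint X := fun s h => s.2 (h.symm ▸ hU)
  have hco : ∀ s : S, Order.coheight (s : X) = 1 := fun s => coheight_eq_one hdim.le (hne s)
  have hcl : ∀ s : S, IsClosed ({(s : X)} : Set X) := fun s =>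
    isClosed_of_dim_le_one hdim.le fun hm => hne s (hm _ ((genericPoint_spec X).specializes trivial)).symm
  -- pairs of a class and the divisor of a rational section without zeros and poles on `U`
  let R : PicLoc.PicSet X → (S → ℤ) → Prop := fun c g =>
    ∃ (L : X.Modules) (hL : PicF.IsInvertible L) (D : X → ℤ), c = PicGrp.cls L hL ∧ H29Ref.HasOrd L D ∧
      (∀ x ∈ U, Order.coheight x = 1 → D x = 0) ∧ ∀ s : S, g s = D s.1
  have hR0 : R 1 0 := ⟨Coh.structureModule X, PicLoc.isInvertible_structureModule X, 0,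
    (PicGrp.cls_structureModule_eq_one (Y := X)).symm, H29Ref.hasOrd_structureModule, fun _ _ _ => rfl, fun _ => rfl⟩
  have hRmul : ∀ {c d g g'}, R c g → R d g' → R (c * d) (g + g') := by
    rintro c d g g' ⟨L, hL, D, hc, hD, hD0, hg⟩ ⟨M, hM, E, hd, hE, hE0, hg'⟩
    refine ⟨CohB1.tensorMod L M, H11Ample.isInvertible_tensor hL hM, fun x => D x + E x, ?_,
      H11PicBlow.hasOrd_tensor hnorm hL hM hD hE, fun x hx h1 => by simp [hD0 x hx h1, hE0 x hx h1],
      fun s => by simp [hg, hg']⟩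
    refine Subtype.ext (Eq.trans ?_ (PicGrp.cls_mul_cls_val hL hM))
    rw [hc, hd]
  have hRuniq : ∀ {c d g}, R c g → R d g → c = d := by
    rintro c d g ⟨L, hL, D, hc, hD, hD0, hg⟩ ⟨M, hM, E, hd, hE, hE0, hg'⟩
    rw [hc, hd, PicGrp.cls_eq_cls_iff]
    refine H11PicBlow.iso_of_hasOrd hnorm hL hM hD (H11PicBlow.hasOrd_congr hE fun z hz => ?_)
    by_cases hzU : z ∈ U
    · rw [hD0 z hzU hz, hE0 z hzU hz]
    · exact ((hg' ⟨z, hzU⟩).symm.trans (hg ⟨z, hzU⟩))
  -- the ideals of the missing points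
  let I : S → X.IdealSheafData := fun s => Scheme.IdealSheafData.vanishingIdeal ⟨{(s : X)}, hcl s⟩
  have hI : ∀ s, BlowUp.IsEffCartierIdeal (I s) := fun s => H28RR.isEffCartier_point k hdim (hcl s)
  have hIi : ∀ s, PicF.IsInvertible (ClSub.idealMod (I s)) := fun s =>
    H29Blow.isInvertible_of_isEffCartierIdeal _ (hI s)
  have hsupp : ∀ s (x : X), x ∈ (I s).support ↔ x = s := fun s x => by
    show x ∈ ((I s).support : Set X) ↔ _
    rw [Scheme.IdealSheafData.coe_support_vanishingIdeal]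
    exact Set.mem_singleton_iff
  let i : S → Additive (PicLoc.PicSet X) := fun s => Additive.ofMul (PicGrp.cls _ (hIi s))
  have hRI : ∀ s, R (Additive.toMul (i s)) (-Pi.single s 1) := fun s => by
    obtain ⟨D, hD, hD0, hD1⟩ := H11PicBlow.hasOrd_idealMod hnorm (I s) (hI s)
      (fun h => hne s ((hsupp s _).1 h).symm) (fun x hx _ => by
        obtain rfl := (hsupp s x).1 hx
        exact stalkIdeal_vanishingIdeal_point (hcl s))
    refine ⟨_, hIi s, D, rfl, hD, fun x hx _ => hD0 x fun h => s.2 ((hsupp s x).1 h ▸ hx), fun t => ?_⟩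
    by_cases ht : t = s
    · subst ht
      rw [Pi.neg_apply, Pi.single_eq_same, hD1 _ ((hsupp t _).2 rfl)]
    · rw [Pi.neg_apply, Pi.single_eq_of_ne ht, neg_zero, hD0 _ fun h => ht (Subtype.ext ((hsupp s _).1 h))]
  -- the class of a divisor
  let ψ : (S → ℤ) →+ Additive (PicLoc.PicSet X) := AddMonoidHom.mk' (fun D => ∑ s, D s • (-i s)) fun D E => by
    simp only [Pi.add_apply, add_zsmul, Finset.sum_add_distrib]
  let P : AddSubmonoid (Additive (PicLoc.PicSet X) × (S → ℤ)) :=
    { carrier := {p | R (Additive.toMul p.1) p.2}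
      zero_mem' := hR0
      add_mem' := fun ha hb => hRmul ha hb }
  have hneg : ∀ A : S → ℕ, R (Additive.toMul (ψ (-fun s => (A s : ℤ)))) (-fun s => (A s : ℤ)) := fun A => by
    have hmem : ∑ s, A s • ((i s, -Pi.single s 1) : Additive (PicLoc.PicSet X) × (S → ℤ)) ∈ P :=
      P.sum_mem fun s _ => P.nsmul_mem (hRI s) _
    have h1 : (∑ s, A s • ((i s, -Pi.single s 1) : Additive (PicLoc.PicSet X) × (S → ℤ))) =
        (ψ (-fun s => (A s : ℤ)), -fun s => (A s : ℤ)) := by
      refine Prod.ext ?_ ?_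
      · rw [Prod.fst_sum]
        refine Finset.sum_congr rfl fun s _ => ?_
        show A s • i s = (-(A s : ℤ)) • (-i s)
        rw [neg_zsmul, zsmul_neg, neg_neg, natCast_zsmul]
      · rw [Prod.snd_sum]
        funext t
        rw [Finset.sum_apply, Finset.sum_eq_single t (fun s _ hs => by
          simp [Pi.single_eq_of_ne' hs]) (fun h => absurd (Finset.mem_univ t) h)]
        simp
    rw [h1] at hmem
    exact hmem
  -- every class with a divisor is the class of that divisor
  have hRψ : ∀ c g, R (Additive.toMul c) g → c = ψ g := fun c g hc => by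
    let A : S → ℕ := fun s => (g s).toNat
    let B : S → ℕ := fun s => (-g s).toNat
    have hAB : g = (-fun s => (B s : ℤ)) - (-fun s => (A s : ℤ)) := by
      funext s; simp only [A, B, Pi.sub_apply, Pi.neg_apply]; omega
    have h1 := hRmul hc (hneg A)
    rw [show g + (-fun s => (A s : ℤ)) = -fun s => (B s : ℤ) from by rw [hAB]; abel] at h1
    have h2 : c + ψ (-fun s => (A s : ℤ)) = ψ (-fun s => (B s : ℤ)) :=
      Additive.toMul.injective (hRuniq h1 (hneg B))
    rw [hAB, map_sub, ← h2, add_sub_cancel_right]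
  have hres : ∀ c : PicLoc.PicSet X, resPic U (Additive.ofMul c) = 0 ↔
      PicGrp.pullHom U.ι (H28Vert.pullMul U.ι) c = 1 := fun c => Iff.rfl
  have hψker : ∀ D, resPic U (ψ D) = 0 := fun D => by
    show resPic U (∑ s, D s • (-i s)) = 0
    rw [map_sum]
    refine Finset.sum_eq_zero fun s _ => ?_
    rw [map_zsmul, map_neg, show resPic U (i s) = 0 from (hres _).2 ?_, neg_zero, zsmul_zero]
    rw [PicGrp.pullHom_cls, PicGrp.cls_eq_one_iff]
    exact H28Vert.nonempty_pullback_idealMod U.ι (hI s) fun c hc =>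
      s.2 ((hsupp s _).1 hc ▸ c.2)
  have hkerR : ∀ c, resPic U c = 0 → ∃ g, R (Additive.toMul c) g := fun c hc => by
    obtain ⟨L, hL, hLc⟩ := PicGrp.exists_eq_cls (Additive.toMul c)
    have h1 : PicGrp.pullHom U.ι (H28Vert.pullMul U.ι) (PicGrp.cls L hL) = 1 := hLc ▸ hc
    rw [PicGrp.pullHom_cls, PicGrp.cls_eq_one_iff] at h1
    obtain ⟨e⟩ := h1
    obtain ⟨D, hD, hD0⟩ := H11PicBlow.hasOrd_of_trivial hnorm hL U hU
      ((Scheme.Modules.restrictFunctorIsoPullback U.ι).app L ≪≫ e)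
    exact ⟨fun s => D s.1, L, hL, D, hLc, hD, hD0, fun _ => rfl⟩
  -- the divisor of a unit
  let germU : Γ(X, U)ˣ → X.functionField := fun a => X.presheaf.germ U (genericPoint X) hU (a : Γ(X, U))
  have hgne : ∀ a, germU a ≠ 0 := fun a => (a.isUnit.map (X.presheaf.germ U (genericPoint X) hU).hom).ne_zero
  let φ : Additive Γ(X, U)ˣ →+ (S → ℤ) :=
    AddMonoidHom.mk' (fun a s => Scheme.ord (germU (Additive.toMul a)) s.1) fun a b => by
      funext s
      show Scheme.ord (germU (Additive.toMul a * Additive.toMul b)) s.1 = _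
      rw [show germU (Additive.toMul a * Additive.toMul b) = germU (Additive.toMul a) * germU (Additive.toMul b)
        from map_mul (X.presheaf.germ U (genericPoint X) hU).hom _ _, Scheme.ord_mul (hgne _) (hgne _)]
      rfl
  have hφR : ∀ a, R 1 (φ a) := fun a =>
    ⟨Coh.structureModule X, PicLoc.isInvertible_structureModule X, fun x => Scheme.ord (germU (Additive.toMul a)) x,
      (PicGrp.cls_structureModule_eq_one (Y := X)).symm, ⟨_, ratFn_ne_zero (hgne _), fun x hx => secO_ratFn (hgne _) hx⟩,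
      fun x hx _ => ord_germ_unit U hU _ hx, fun _ => rfl⟩
  have hRφ : ∀ g, R 1 g → g ∈ φ.range := by
    rintro g ⟨L, hL, D, h1, hD, hD0, hg⟩
    obtain ⟨e⟩ := (PicGrp.cls_eq_one_iff hL).1 h1.symm
    obtain ⟨v, hv, hvD⟩ := H29Ref.HasOrd.iso hnorm (H12Pic.OpenLine.isRef1_of_isInvertible hL) hD e
    obtain ⟨ψ₀, rfl⟩ := exists_ratFn_eq v
    have hψ₀ : ψ₀ ≠ 0 := by
      rintro rfl
      exact hv (zero_smul _ _)
    obtain ⟨a, ha⟩ := exists_unit_germ hnorm U hU hψ₀ fun x hx h1 => by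
      rw [← secO_ratFn hψ₀ h1, hvD x h1, hD0 x hx h1]
    refine ⟨Additive.ofMul a, funext fun s => ?_⟩
    show Scheme.ord (germU a) s.1 = g s
    rw [show germU a = ψ₀ from ha, ← secO_ratFn hψ₀ (hco s), hvD _ (hco s), hg s]
  refine ⟨δ, ψ, φ, hδ, fun D => ?_, resPic_surjective hnorm hdim.le U hU, ?_, ?_, fun a ha n hn => ?_⟩
  · show δ (∑ s, D s • (-i s)) = _
    rw [map_sum]
    refine Finset.sum_congr rfl fun s _ => ?_
    rw [map_zsmul, map_neg, show δ (i s) = -1 from hδI _ _ _, neg_neg, smul_eq_mul, mul_one]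
  · refine le_antisymm (fun c ⟨D, hD⟩ => hD ▸ hψker D) fun c hc => ?_
    obtain ⟨g, hg⟩ := hkerR c hc
    exact ⟨g, (hRψ c g hg).symm⟩
  · refine le_antisymm (fun g ⟨a, ha⟩ => ha ▸ (hRψ 0 _ (hφR a)).symm) fun D hD => ?_
    let A : S → ℕ := fun s => (D s).toNat
    let B : S → ℕ := fun s => (-D s).toNat
    have hAB : D = (-fun s => (B s : ℤ)) - (-fun s => (A s : ℤ)) := by
      funext s; simp only [A, B, Pi.sub_apply, Pi.neg_apply]; omega
    have hx : ψ (-fun s => (A s : ℤ)) = ψ (-fun s => (B s : ℤ)) := by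
      have h0 : ψ D = 0 := hD
      rw [hAB, map_sub, sub_eq_zero] at h0
      exact h0.symm
    obtain ⟨E, hE⟩ := hkerR (-ψ (-fun s => (A s : ℤ))) (by rw [map_neg, hψker, neg_zero])
    have h1 := hRmul hE (hneg A)
    have h2 := hRmul hE (hneg B)
    rw [← toMul_add, neg_add_cancel, toMul_zero] at h1
    rw [← toMul_add, hx, neg_add_cancel, toMul_zero] at h2
    have h3 := φ.range.sub_mem (hRφ _ h2) (hRφ _ h1)
    rwa [add_sub_add_left_eq_sub, ← hAB] at h3
  · -- a unit without zeros and poles at infinity is constant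
    have hη : genericPoint X ∈ (⊤ : X.Opens) := trivial
    obtain ⟨v, hv⟩ := exists_unit_germ hnorm ⊤ hη (hgne (Additive.toMul a)) fun x _ h1 => by
      by_cases hx : x ∈ U
      · exact ord_germ_unit U hU _ hx
      · exact congrFun ha ⟨x, hx⟩
    haveI : IsIso f.appTop := LeadBC.GeomConn.isIso_appTop_of_algClosed f
    let c : CommRingCat.of k ⟶ Γ(X, ⊤) := (Scheme.ΓSpecIso (CommRingCat.of k)).inv ≫ f.appTop
    obtain ⟨r, hr⟩ := (ConcreteCategory.bijective_of_isIso c).2 (v : Γ(X, ⊤))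
    obtain ⟨t, ht⟩ := IsAlgClosed.exists_pow_nat_eq r hn
    let res := (X.presheaf.map (homOfLE (le_top : U ≤ ⊤)).op).hom
    have hpow : res (c.hom t) ^ n = (Additive.toMul a : Γ(X, U)ˣ) := by
      rw [← map_pow, ← map_pow, ht]
      refine germ_injective_of_isIntegral X (genericPoint X) hU ?_
      exact (TopCat.Presheaf.germ_res_apply X.presheaf (homOfLE (le_top : U ≤ ⊤)) (genericPoint X) hU _).trans
        ((congrArg _ hr).trans hv)
    have hu : IsUnit (res (c.hom t)) := (isUnit_pow_iff hn.ne').1 (hpow ▸ (Additive.toMul a).isUnit)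
    refine ⟨Additive.ofMul hu.unit, ?_⟩
    rw [← ofMul_pow]
    refine congrArg Additive.ofMul (Units.ext ?_)
    rw [Units.val_pow_eq_pow_val]
    exact hpow

end Groth.Agent.H05EGA4.EtCl.Fin
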