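import Groth.Agent.H05EGA4.EtCl.Fin.SmoothCurve
import Groth.Agent.H05EGA4.EtCl.Fin.PicDegree
import Groth.Agent.S0203

/-!
# Kummer theory on smooth curves over algebraically closed fields
-/

set_option autoImplicit false
set_option linter.style.haveILetI false
set_option linter.unusedSectionVars false
set_option backward.isDefEq.respectTransparency.types false

universe u

open CategoryTheory CategoryTheory.Limits AlgebraicGeometry Opposite Abelian

namespace Groth.Agent.H05EGA4.EtCl.Fin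

open scoped Groth.Agent.H18Et

attribute [local instance] Groth.Agent.H28Vert.picLaw

variable {Y : Scheme.{u}} {n : ℕ}

theorem muι_comp_surjective_zero (hS : (EtSix.kummerSC Y n).ShortExact) (y : EtCoh.H Y (EtCoh.Gm Y) 0)
    (hy : n • y = 0) : ∃ x : EtCoh.H Y (EtCoh.mu Y n) 0, x.comp (Ext.mk₀ (EtCoh.muι Y n)) (add_zero 0) = y :=
  Ext.covariant_sequence_exact₂ _ hS y ((hpw' n 0 y).trans hy)

/-- The connecting map in degree one is surjective when `H²(G_m)` vanishes. -/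
theorem delta_surjective (hS : (EtSix.kummerSC Y n).ShortExact) (h2 : Subsingleton (EtCoh.H Y (EtCoh.Gm Y) 2))
    (b : EtCoh.H Y (EtCoh.mu Y n) 2) : ∃ y : EtCoh.H Y (EtCoh.Gm Y) 1, y.comp hS.extClass (rfl : 1 + 1 = 2) = b :=
  Ext.covariant_sequence_exact₁ _ hS b (h2.elim _ _) (rfl : 1 + 1 = 2)

theorem exists_nsmul_of_delta_eq_zero (hS : (EtSix.kummerSC Y n).ShortExact) (y : EtCoh.H Y (EtCoh.Gm Y) 1)
    (hy : y.comp hS.extClass (rfl : 1 + 1 = 2) = 0) : ∃ z, n • z = y := by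
  obtain ⟨z, hz⟩ := Ext.covariant_sequence_exact₃ _ hS y (rfl : 1 + 1 = 2) hy
  exact ⟨z, (hpw' n 1 z).symm.trans hz⟩

/-- `H²(μ_n)` is the Picard group modulo `n`. -/
theorem nonempty_H_two_mu_equiv (hS : (EtSix.kummerSC Y n).ShortExact)
    (h2 : Subsingleton (EtCoh.H Y (EtCoh.Gm Y) 2)) {Q : Type*} [AddCommGroup Q]
    (φ : Additive (PicLoc.PicSet Y) →+ Q) (hφ : Function.Surjective φ)
    (hker : ∀ c, φ c = 0 ↔ ∃ b, n • b = c) : Nonempty (EtCoh.H Y (EtCoh.mu Y n) 2 ≃+ Q) := by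
  obtain ⟨eP⟩ := Groth.Agent.H05EGA4.EtH90.nonempty_addEquiv Y
  let θ : Additive (PicLoc.PicSet Y) →+ EtCoh.H Y (EtCoh.mu Y n) 2 :=
    (hS.extClass.postcomp _ (rfl : 1 + 1 = 2)).comp eP.toAddMonoidHom
  have hθ : Function.Surjective θ := fun b => by
    obtain ⟨y, hy⟩ := delta_surjective hS h2 b
    exact ⟨eP.symm y, by
      show (eP (eP.symm y)).comp hS.extClass (rfl : 1 + 1 = 2) = b
      rw [AddEquiv.apply_symm_apply]; exact hy⟩
  have hkθ : θ.ker = φ.ker := by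
    ext c
    rw [AddMonoidHom.mem_ker, AddMonoidHom.mem_ker, hker]
    constructor
    · intro h
      obtain ⟨z, hz⟩ := exists_nsmul_of_delta_eq_zero hS (eP c) h
      exact ⟨eP.symm z, eP.injective (by rw [map_nsmul, AddEquiv.apply_symm_apply, hz])⟩
    · rintro ⟨b, rfl⟩
      show (eP (n • b)).comp hS.extClass (rfl : 1 + 1 = 2) = 0
      rw [map_nsmul]
      exact delta_nsmul hS (rfl : 1 + 1 = 2) (eP b)
  exact ⟨(QuotientAddGroup.quotientKerEquivOfSurjective θ hθ).symm.trans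
    ((QuotientAddGroup.quotientAddEquivOfEq hkθ).trans (QuotientAddGroup.quotientKerEquivOfSurjective φ hφ))⟩

variable {k : Type u} [Field k] [IsAlgClosed k] (g : Y ⟶ Spec (CommRingCat.of k))

include g

theorem kummer_exact (hnk : (n : k) ≠ 0) : (EtSix.kummerSC Y n).ShortExact := by
  have h' := (isUnit_iff_ne_zero.2 hnk).map ((Scheme.ΓSpecIso (CommRingCat.of k)).inv ≫ g.appTop).hom
  rw [map_natCast] at h'
  exact EtSix.kummerShortExact (Groth.Agent.S0108.result Y n h')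

theorem mu_iso_const (hn : 1 ≤ n) (hnk : (n : k) ≠ 0) : Nonempty (EtCoh.mu Y n ≅ EtCoh.const Y (ZMod n)) := by
  let φ : CommRingCat.of k ⟶ Γ(Y, ⊤) := (Scheme.ΓSpecIso (CommRingCat.of k)).inv ≫ g.appTop
  have hu : IsUnit (n : Γ(Y, ⊤)) := by
    have h' := (isUnit_iff_ne_zero.2 hnk).map φ.hom
    rwa [map_natCast] at h'
  haveI : NeZero (n : k) := ⟨hnk⟩
  obtain ⟨ζ, hζ⟩ := HasEnoughRootsOfUnity.exists_primitiveRoot k n
  have hζ' : Polynomial.aeval (φ.hom ζ) (Polynomial.cyclotomic n ℤ) = 0 := by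
    rw [show Polynomial.aeval (φ.hom ζ) (Polynomial.cyclotomic n ℤ) =
      φ.hom.toIntAlgHom (Polynomial.aeval ζ (Polynomial.cyclotomic n ℤ)) from
      Polynomial.aeval_algHom_apply φ.hom.toIntAlgHom ζ _]
    have h' := hζ.isRoot_cyclotomic (R := k) hn
    rw [← Polynomial.map_cyclotomic n (Int.castRingHom k), Polynomial.IsRoot.def, Polynomial.eval_map] at h'
    rw [show Polynomial.aeval ζ (Polynomial.cyclotomic n ℤ) = 0 from h', map_zero]
  exact Groth.Agent.H18Et.MuConst.nonempty_iso hn hu (φ.hom ζ) hζ'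

/-- Global sections of `μ_n` on an integral scheme over an algebraically closed field. -/
theorem nonempty_H_zero_mu [IsIntegral Y] (hn : 1 ≤ n) (hnk : (n : k) ≠ 0) :
    Nonempty (EtCoh.H Y (EtCoh.mu Y n) 0 ≃+ Additive ↥(rootsOfUnity n k)) := by
  have hS := kummer_exact g hnk
  let c := ((Scheme.ΓSpecIso (CommRingCat.of k)).inv ≫ g.appTop).hom
  have hcinj : Function.Injective c := c.injective
  let cu : kˣ →* Γ(Y, ⊤)ˣ := Units.map c.toMonoidHom
  let E := Sheaf.H.equiv₀ (EtCoh.Gm Y) (EtCore.topIsTerminal Y)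
  let sU : Additive Γ(Y, ⊤)ˣ →+ EtCoh.H Y (EtCoh.Gm Y) 0 :=
    E.symm.toAddMonoidHom.comp (AddMonoidHom.mk'
      (fun a : Additive Γ(Y, ⊤)ˣ => Groth.Agent.H18Et.MuConst.sec (U := EtCoh.top Y) (Additive.toMul a))
      fun a b => rfl)
  have hsU : Function.Injective sU := fun a b h =>
    Additive.toMul.injective (Groth.Agent.H18Et.MuConst.sec_injective (U := EtCoh.top Y) (E.symm.injective h))
  haveI : NeZero n := ⟨by omega⟩
  haveI : NeZero (n : k) := ⟨hnk⟩
  obtain ⟨ζ, hζ⟩ := HasEnoughRootsOfUnity.exists_primitiveRoot k n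
  have hζY : IsPrimitiveRoot (c ζ) n := hζ.map_of_injective hcinj
  haveI : Mono (EtCoh.muι Y n) := inferInstanceAs (Mono (kernel.ι _))
  let u : EtCoh.H Y (EtCoh.mu Y n) 0 →+ EtCoh.H Y (EtCoh.Gm Y) 0 := (Ext.mk₀ (EtCoh.muι Y n)).postcomp _ (add_zero 0)
  have hu : Function.Injective u := injective_H_zero_of_mono (EtCoh.muι Y n)
  let j : Additive ↥(rootsOfUnity n k) →+ EtCoh.H Y (EtCoh.Gm Y) 0 :=
    sU.comp (MonoidHom.toAdditive (cu.comp (rootsOfUnity n k).subtype))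
  have hj : Function.Injective j := fun a b h =>
    Additive.toMul.injective (Subtype.ext (Units.map_injective hcinj (Additive.ofMul.injective (hsU h))))
  refine ⟨(AddMonoidHom.ofInjective hu).trans ((AddEquiv.addSubgroupCongr ?_).trans (AddMonoidHom.ofInjective hj).symm)⟩
  apply le_antisymm
  · intro y hy
    obtain ⟨z, hz⟩ := AddMonoidHom.mem_range.1 hy
    obtain ⟨v₀, hv⟩ := Groth.Agent.H18Et.MuConst.sec_surjective (E y)
    obtain ⟨v, rfl⟩ : ∃ v : Γ(Y, ⊤)ˣ, (v : Γ((EtCoh.top Y).left, ⊤)ˣ) = v₀ := ⟨v₀, rfl⟩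
    have hsv : sU (Additive.ofMul v) = y := E.injective ((E.apply_symm_apply _).trans hv)
    have h0 : sU (n • Additive.ofMul v) = 0 := by
      rw [map_nsmul, hsv, ← hz]
      exact muι_comp_nsmul n 0 z
    have hvn : v ^ n = 1 := Additive.ofMul.injective ((ofMul_pow n v).trans (hsU (h0.trans (map_zero sU).symm)))
    obtain ⟨i, -, hi⟩ := hζY.eq_pow_of_pow_eq_one
      (show (v : Γ(Y, ⊤)) ^ n = 1 by rw [← Units.val_pow_eq_pow_val, hvn, Units.val_one])
    refine AddMonoidHom.mem_range.2 ⟨Additive.ofMul (rootsOfUnity.mkOfPowEq (ζ ^ i)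
      (by rw [← pow_mul, mul_comm, pow_mul, hζ.pow_eq_one, one_pow])), ?_⟩
    rw [← hsv]
    refine congrArg (fun t => sU (Additive.ofMul t)) (Units.ext ?_)
    show c (ζ ^ i) = _
    rw [map_pow, hi]
  · intro y hy
    obtain ⟨r, rfl⟩ := AddMonoidHom.mem_range.1 hy
    obtain ⟨x, hx⟩ := muι_comp_surjective_zero hS (j r) (by
      rw [← map_nsmul, show n • r = 0 from Additive.toMul.injective (Subtype.ext ((mem_rootsOfUnity n _).1 (Additive.toMul r).2)),
        map_zero])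
    exact AddMonoidHom.mem_range.2 ⟨x, hx⟩

end Groth.Agent.H05EGA4.EtCl.Fin
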