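import Groth.Agent.H05EGA4.EtCl.Fin.Birational
import Groth.Agent.H05EGA4.EtCl.DimOne
import Groth.Agent.H05EGA4.CurveNorm
import Groth.Agent.H11Curve.NormFinite
import Groth.Agent.H11Curve.NormalizationBasic
import Groth.Agent.H8Props.NormalLowDim
import Groth.Agent.H8Props.FlatDimOneBase
import Groth.Agent.H28Bertini.Regular
import Groth.Agent.H06NormCurve.Dim
import Groth.Agent.S9802

/-!
# Finiteness for constant sheaves on curves from smooth integral curves
-/

set_option autoImplicit false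
set_option linter.style.haveILetI false
set_option linter.unusedSectionVars false
set_option backward.isDefEq.respectTransparency false
set_option backward.isDefEq.respectTransparency.types false

universe u

open CategoryTheory CategoryTheory.Limits AlgebraicGeometry Opposite TopologicalSpace

namespace Groth.Agent.H05EGA4.EtCl.Fin

open scoped Groth.Agent.H18Et

/-- Finitely many points in a closed set all of whose points are closed. -/
theorem finite_closed_points {Y : Scheme.{u}} [AlgebraicGeometry.IsNoetherian Y] {C : Set Y} (hC : IsClosed C)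
    (h : ∀ x ∈ C, IsClosed ({x} : Set Y)) : C.Finite := by
  obtain ⟨S, hSfin, hScl, hSirr, rfl⟩ := NoetherianSpace.exists_finite_set_isClosed_irreducible hC
  refine hSfin.sUnion fun t ht => ?_
  obtain ⟨η, hη⟩ := QuasiSober.sober (hSirr t ht) (hScl t ht)
  rw [← hη.def, (h η ⟨t, ht, hη.mem⟩).closure_eq]
  exact Set.finite_singleton η

/-- The normalization of a maximal point of a curve. -/
theorem exists_normal_piece {k : Type u} [Field k] [IsAlgClosed k] {Y : Scheme.{u}} (g : Y ⟶ Spec (CommRingCat.of k))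
    [LocallyOfFiniteType g] [AlgebraicGeometry.IsNoetherian Y] (hdim : topologicalKrullDim Y ≤ 1) (η : Y)
    (hη : IsMaxPt η) :
    ∃ (W V : Scheme.{u}) (ν : W ⟶ Y) (j : V ⟶ W), IsFinite ν ∧ IsImmersion j ∧ IsImmersion (j ≫ ν) ∧
      IsIntegral W ∧ Smooth (ν ≫ g) ∧ topologicalKrullDim W ≤ 1 ∧
      ν ⁻¹' Set.range (j ≫ ν) = Set.range j ∧ IsOpen (Set.range (j ≫ ν)) ∧ η ∈ Set.range (j ≫ ν) ∧
      Set.range ν ⊆ closure {η} ∧ ∀ η', IsMaxPt η' → η' ≠ η → Disjoint (closure {η'}) (Set.range (j ≫ ν)) := by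
  obtain ⟨hZ, t, ht, hte⟩ := Groth.Agent.S9802.isIntegral_vanishingIdeal (closure {η}) isClosed_closure η rfl
  haveI := hZ
  let I := Scheme.IdealSheafData.vanishingIdeal (X := Y) ⟨closure {η}, isClosed_closure⟩
  let Z := I.subscheme
  let i : Z ⟶ Y := I.subschemeι
  have hr : Set.range i = closure {η} := by
    rw [Scheme.IdealSheafData.range_subschemeι, Scheme.IdealSheafData.coe_support_vanishingIdeal]
    rfl
  haveI : IsFinite i := inferInstance
  haveI : AlgebraicGeometry.IsNoetherian Z := Dev.isNoetherian_of_finite i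
  haveI : LocallyOfFiniteType (i ≫ g) := inferInstance
  haveI : QuasiCompact (Z.fromSpecStalk (genericPoint Z)) := inferInstance
  haveI : QuasiSeparated (Z.fromSpecStalk (genericPoint Z)) := inferInstance
  haveI : IsFinite (Curv2.normalizationι Z) := H11Curve.isFinite_normalizationι (i ≫ g)
  obtain ⟨U, hUd, hUiso⟩ := H05EGA4.CurveNorm.exists_isIso_open Z inferInstance
  -- the open set away from the other components
  haveI := finite_isMaxPt Y
  let O : Set Y := ⋂ η' : {y : Y // IsMaxPt y ∧ y ≠ η}, (closure {η'.1})ᶜ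
  haveI : Finite {y : Y // IsMaxPt y ∧ y ≠ η} :=
    Finite.of_injective (fun y => (⟨y.1, y.2.1⟩ : {y : Y // IsMaxPt y})) fun a b h => Subtype.ext (congrArg (fun z : {y : Y // IsMaxPt y} => z.1) h)
  have hO : IsOpen O := isOpen_iInter_of_finite fun η' => isClosed_closure.isOpen_compl
  have hηO : η ∈ O := Set.mem_iInter.2 fun η' h => η'.2.2 (hη _ (specializes_iff_mem_closure.2 h))
  have hOs : O ⊆ Set.range i := fun y hy => by
    obtain ⟨η', hη', hs⟩ := exists_isMaxPt y
    by_cases he : η' = η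
    · rw [hr, ← he]; exact specializes_iff_mem_closure.1 hs
    · exact absurd (specializes_iff_mem_closure.1 hs) (Set.mem_iInter.1 hy ⟨η', hη', he⟩)
  let U' : Z.Opens := ⟨(U : Set Z) ∩ i ⁻¹' O, U.2.inter (hO.preimage i.continuous)⟩
  have hgen : t = genericPoint Z := IsGenericPoint.eq ht (genericPoint_spec Z)
  have htU : t ∈ U' := by
    obtain ⟨z, hz⟩ := hUd.nonempty
    refine ⟨?_, show i t ∈ O from hte ▸ hηO⟩
    rw [hgen]
    exact ((genericPoint_spec Z).specializes (Set.mem_univ z)).mem_open U.2 hz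
  obtain ⟨O', hO', hO'U⟩ := i.isEmbedding.isInducing.isOpen_iff.1 U'.2
  have himg : i '' (U' : Set Z) = O' ∩ O := by
    ext y
    constructor
    · rintro ⟨z, hz, rfl⟩
      exact ⟨hO'U.ge hz, hz.2⟩
    · rintro ⟨hy, hyO⟩
      obtain ⟨z, rfl⟩ := hOs hyO
      exact ⟨z, hO'U.le hy, rfl⟩
  let ν₀ := Curv2.normalizationι Z
  haveI hi' : IsIso (ν₀ ∣_ U') := by
    have hle : U' ≤ U := fun z hz => hz.1
    have h0 : IsIso (ν₀ ∣_ U ∣_ (U.ι ⁻¹ᵁ U')) :=
      IsZariskiLocalAtTarget.restrict (P := MorphismProperty.isomorphisms Scheme) hUiso _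
    have h1 := ((MorphismProperty.isomorphisms Scheme).arrow_mk_iso_iff
      (morphismRestrictRestrict ν₀ U (U.ι ⁻¹ᵁ U'))).1 h0
    rw [Scheme.Hom.image_preimage_eq_opensRange_inf, Scheme.Opens.opensRange_ι, inf_eq_right.2 hle] at h1
    exact h1
  let j := (ν₀ ⁻¹ᵁ U').ι
  have hjν : j ≫ ν₀ ≫ i = (ν₀ ∣_ U') ≫ U'.ι ≫ i := by rw [morphismRestrict_ι_assoc]
  have hrange : Set.range (j ≫ ν₀ ≫ i) = i '' (U' : Set Z) := by
    haveI : Surjective (ν₀ ∣_ U') := inferInstance
    rw [hjν, Scheme.Hom.comp_base, TopCat.coe_comp, Set.range_comp, Scheme.Hom.comp_base, TopCat.coe_comp,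
      (ν₀ ∣_ U').surjective.range_eq, Set.image_univ, Set.range_comp, Scheme.Opens.range_ι]
  refine ⟨Curv2.normalization Z, (ν₀ ⁻¹ᵁ U').toScheme, ν₀ ≫ i, j, inferInstance, inferInstance,
    by rw [hjν]; infer_instance, H11Curve.isIntegral_normalization Z, ?_, ?_, ?_, ?_, ?_, ?_, fun η' h1 h2 => ?_⟩
  · have hdimW : topologicalKrullDim (Curv2.normalization Z) ≤ 1 :=
      (H06NormCurve.topologicalKrullDim_le_of_finite (ν₀ ≫ i)).trans hdim
    haveI : AlgebraicGeometry.IsNoetherian (Curv2.normalization Z) := Dev.isNoetherian_of_finite (ν₀ ≫ i)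
    refine H28Bertini.smooth_of_regular _ fun w => ?_
    obtain ⟨h1, h2⟩ := H11Curve.isNormal_normalization Z w
    haveI := h1; haveI := h2
    exact H8Props.NormalLowDim.isRegularLocalRing_of_dim_le_one _
      ((H8Props.FlatDimOneBase.ringKrullDim_stalk_le _ w).trans hdimW)
  · exact (H06NormCurve.topologicalKrullDim_le_of_finite (ν₀ ≫ i)).trans hdim
  · rw [hrange, Scheme.Hom.comp_base, TopCat.coe_comp, Set.preimage_comp, i.isEmbedding.injective.preimage_image,
      Scheme.Opens.range_ι]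
    rfl
  · rw [hrange, himg]; exact hO'.inter hO
  · rw [hrange]; exact ⟨t, htU, hte⟩
  · rintro y ⟨w, rfl⟩
    rw [← hr]
    exact ⟨ν₀ w, rfl⟩
  · rw [hrange, himg]
    exact Set.disjoint_left.2 fun y hy hy' => Set.mem_iInter.1 hy'.2 ⟨η', h1, h2⟩ hy

/-- Finiteness for the constant sheaf on a curve from smooth integral curves finite over it. -/
theorem finite_H_const_of_smooth {k : Type u} [Field k] [IsAlgClosed k] {Y : Scheme.{u}}
    (g : Y ⟶ Spec (CommRingCat.of k)) [LocallyOfFiniteType g] [AlgebraicGeometry.IsNoetherian Y]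
    (hdim : topologicalKrullDim Y ≤ 1) (ℓ : ℕ) [NeZero ℓ]
    (hW : ∀ (W : Scheme.{u}) (ν : W ⟶ Y), IsFinite ν → IsIntegral W → Smooth (ν ≫ g) → topologicalKrullDim W ≤ 1 →
      ∀ q, Finite (EtCoh.H W (EtCoh.const W (ZMod ℓ)) q))
    (q : ℕ) : Finite (EtCoh.H Y (EtCoh.const Y (ZMod ℓ)) q) := by
  haveI := finite_isMaxPt Y
  let e := (Finite.equivFin {y : Y // IsMaxPt y}).symm
  choose W V ν j hν hj hjν hWi hs hd hpre hop hmem hsub hdisj using
    fun a => exists_normal_piece g hdim (e a).1 (e a).2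
  haveI := hν; haveI := hj; haveI := hjν
  have hopen : IsOpen (⋃ a, Set.range (j a ≫ ν a)) := isOpen_iUnion hop
  have hcl : ∀ y ∈ (⋃ a, Set.range (j a ≫ ν a))ᶜ, IsClosed ({y} : Set Y) := fun y hy => by
    refine isClosed_of_dim_le_one hdim fun hm => hy (Set.mem_iUnion.2 ⟨e.symm ⟨y, hm⟩, ?_⟩)
    have h := hmem (e.symm ⟨y, hm⟩)
    rwa [Equiv.apply_symm_apply] at h
  refine finite_H_of_family g W V ν j hpre (fun a b hab => ?_) (finite_closed_points hopen.isClosed_compl hcl) hcl ℓ
    (fun a => hW (W a) (ν a) (hν a) (hWi a) (hs a) (hd a)) q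
  refine Set.disjoint_of_subset_left (hsub b) (hdisj a _ (e b).2 fun h => hab ?_)
  exact (e.injective (Subtype.ext h)).symm

end Groth.Agent.H05EGA4.EtCl.Fin
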