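import Groth.Agent.H05EGA4.EtCl.Fin.SmoothCurve
import Groth.Agent.H05EGA4.EtCl.Fin.Normalize
import Groth.Agent.H05EGA4.EtCl.Fin.Devissage
import Groth.Agent.S8725

/-!
# Finiteness of the cohomology of constructible sheaves on curves
-/

set_option autoImplicit false
set_option linter.style.haveILetI false
set_option linter.unusedSectionVars false
set_option backward.isDefEq.respectTransparency false
set_option backward.isDefEq.respectTransparency.types false

universe u

open CategoryTheory CategoryTheory.Limits AlgebraicGeometry Opposite TopologicalSpace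

namespace Groth.Agent.H05EGA4.EtCl.Fin

open scoped Groth.Agent.H18Et

theorem isClosed_singleton_of_dim_lt_one {Y : Scheme.{u}} (h : topologicalKrullDim Y < 1) (y : Y) :
    IsClosed ({y} : Set Y) := by
  rw [← closure_subset_iff_isClosed]
  intro z hz
  by_contra hne
  let I : Y → IrreducibleCloseds Y := fun a => ⟨closure {a}, isIrreducible_singleton.closure, isClosed_closure⟩
  have hlt : I z < I y := by
    refine lt_of_le_of_ne (show closure {z} ⊆ closure {y} from
      specializes_iff_closure_subset.1 (specializes_iff_mem_closure.2 hz)) fun e => hne ?_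
    exact (IsGenericPoint.eq (S := closure {y})
      (congrArg (fun t : IrreducibleCloseds Y => (t : Set Y)) e) isGenericPoint_closure)
  let c : LTSeries (IrreducibleCloseds Y) := (RelSeries.singleton _ (I y)).cons (I z) hlt
  have h' : (c.length : WithBot ℕ∞) ≤ topologicalKrullDim Y := Order.LTSeries.length_le_krullDim c
  exact absurd (lt_of_le_of_lt h' h) (by simp [c])

theorem isNoetherian_over_field {k : Type u} [Field k] {Y : Scheme.{u}} (g : Y ⟶ Spec (CommRingCat.of k))
    [LocallyOfFiniteType g] [QuasiCompact g] : AlgebraicGeometry.IsNoetherian Y := by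
  haveI : IsLocallyNoetherian Y := LocallyOfFiniteType.isLocallyNoetherian g
  haveI : CompactSpace Y := QuasiCompact.compactSpace_of_compactSpace g
  exact {}

/-- Finiteness for `ℤ/ℓ`, `ℓ` invertible, on a separated curve of finite type. -/
theorem finite_H_const_curve {k : Type u} [Field k] [IsAlgClosed k] {Y : Scheme.{u}}
    (g : Y ⟶ Spec (CommRingCat.of k)) [IsSeparated g] [LocallyOfFiniteType g] [QuasiCompact g]
    (hdim : topologicalKrullDim Y ≤ 1) {ℓ : ℕ} [NeZero ℓ] (hℓ : (ℓ : k) ≠ 0) (q : ℕ) :
    Finite (EtCoh.H Y (EtCoh.const Y (ZMod ℓ)) q) := by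
  haveI := isNoetherian_over_field g
  refine finite_H_const_of_smooth g hdim ℓ (fun W ν hν hW hs hd q => ?_) q
  haveI := hν; haveI := hW; haveI := hs
  haveI := Dev.isNoetherian_of_finite ν
  haveI : IsSeparated (ν ≫ g) := inferInstance
  haveI : QuasiCompact (ν ≫ g) := inferInstance
  haveI : LocallyOfFiniteType (ν ≫ g) := inferInstance
  by_cases h1 : topologicalKrullDim W = 1
  · exact finite_H_const_smooth_curve (ν ≫ g) h1 hℓ q
  · have hlt : topologicalKrullDim W < 1 := lt_of_le_of_ne hd h1
    have hcl := fun y : W => isClosed_singleton_of_dim_lt_one hlt y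
    refine finite_H_of_supp (ν ≫ g) _ (isConstructible_const_finite (ZMod ℓ)) ?_ (fun y _ => hcl y) q
    exact (finite_closed_points isClosed_univ fun y _ => hcl y).subset (Set.subset_univ _)

/-- Finiteness for `ℤ/ℓ` on a proper curve, any prime `ℓ`. -/
theorem finite_H_const_proper_curve {k : Type u} [Field k] [IsAlgClosed k] {Y : Scheme.{u}}
    (g : Y ⟶ Spec (CommRingCat.of k)) [IsProper g] (hdim : topologicalKrullDim Y ≤ 1) (ℓ : ℕ) (hℓ : ℓ.Prime) (q : ℕ) :
    Finite (EtCoh.H Y (EtCoh.const Y (ZMod ℓ)) q) := by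
  haveI : Fact ℓ.Prime := ⟨hℓ⟩
  by_cases h0 : (ℓ : k) = 0
  · haveI : CharP k ℓ := CharP.charP_iff_prime_eq_zero hℓ |>.2 h0
    letI : Y.Over (Spec (CommRingCat.of k)) := ⟨g⟩
    haveI : IsProper (Y ↘ Spec (CommRingCat.of k)) := ‹IsProper g›
    exact (Groth.Agent.S8725.result k ℓ Y q).1
  · exact finite_H_const_curve g hdim h0 q

/-- Finiteness for constructible sheaves of orders invertible in the base field. -/
theorem finite_H_curve {k : Type u} [Field k] [IsAlgClosed k] {X : Scheme.{u}} (f : X ⟶ Spec (CommRingCat.of k))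
    [IsSeparated f] [LocallyOfFiniteType f] [QuasiCompact f] (hdim : topologicalKrullDim X ≤ 1) (F : EtCoh.Ab X)
    (hF : EtPBC.IsConstructible F) (hFt : EtPBC.IsTorsionInvertibleOn (Spec (CommRingCat.of k)) F) (q : ℕ) :
    Finite (EtCoh.H X F q) := by
  haveI := isNoetherian_over_field f
  obtain ⟨n, hn, hk⟩ := H18Et.Cons.exists_killedBy F hF
  obtain ⟨m, hm, hmu, hm0⟩ := exists_invertible_killing F n (Nat.pos_of_ne_zero (NeZero.ne n)) hk hFt
  refine finite_H_constructible m (fun Y g hg ℓ hℓ hdvd i => ?_) q F hF hm0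
  haveI := hg
  haveI : NeZero ℓ := ⟨hℓ.ne_zero⟩
  refine finite_H_const_curve (g ≫ f) ((H06NormCurve.topologicalKrullDim_le_of_finite g).trans hdim) ?_ i
  have h := (hmu ℓ hℓ hdvd).map (Scheme.ΓSpecIso (CommRingCat.of k)).hom.hom
  rw [map_natCast] at h
  exact h.ne_zero

/-- Finiteness for constructible sheaves on proper curves. -/
theorem finite_H_proper_curve {k : Type u} [Field k] [IsAlgClosed k] {X : Scheme.{u}} (f : X ⟶ Spec (CommRingCat.of k))
    [IsProper f] (hdim : topologicalKrullDim X ≤ 1) (F : EtCoh.Ab X) (hF : EtPBC.IsConstructible F) (q : ℕ) :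
    Finite (EtCoh.H X F q) := by
  haveI := isNoetherian_over_field f
  obtain ⟨n, -, hk⟩ := H18Et.Cons.exists_killedBy F hF
  refine finite_H_constructible n (fun Y g hg ℓ hℓ _ i => ?_) q F hF (H9GalCoh.Dev.nsmul_of_killedBy hk)
  haveI := hg
  exact finite_H_const_proper_curve (g ≫ f) ((H06NormCurve.topologicalKrullDim_le_of_finite g).trans hdim) ℓ hℓ i

end Groth.Agent.H05EGA4.EtCl.Fin
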