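import Groth.Agent.H11PicBlow.Ord
import Groth.Agent.H12Pic.FinKer.Extend
import Groth.Agent.H28Vert.VertGroup
import Groth.Agent.H05EGA4.EtCl.DimOne
import Groth.Agent.H8Props.FlatDimOneBase
import Groth.Agent.H05EGA4.EtCl.Fin.Abelian
import Groth.Agent.H05EGA4.EtCl.Fin.Normalize

/-!
# The Picard group of an open part of a normal curve
-/

set_option autoImplicit false
set_option linter.style.haveILetI false
set_option linter.unusedSectionVars false
set_option backward.isDefEq.respectTransparency.types false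

universe u

open CategoryTheory CategoryTheory.Limits AlgebraicGeometry Opposite TopologicalSpace

namespace Groth.Agent.H05EGA4.EtCl.Fin

attribute [local instance] Groth.Agent.H28Vert.picLaw

variable {X : Scheme.{u}} [IsIntegral X] [AlgebraicGeometry.IsNoetherian X]

/-- Restriction of classes to an open subscheme. -/
noncomputable def resPic (U : X.Opens) : Additive (PicLoc.PicSet X) →+ Additive (PicLoc.PicSet (U : Scheme.{u})) :=
  MonoidHom.toAdditive (PicGrp.pullHom U.ι (H28Vert.pullMul U.ι))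

theorem resPic_surjective (hX : Pi1.IsNormalScheme X) (hdim : topologicalKrullDim X ≤ 1) (U : X.Opens)
    (hU : genericPoint X ∈ U) : Function.Surjective (resPic U) := fun c => by
  obtain ⟨L, hL, hc⟩ := PicGrp.exists_eq_cls (Additive.toMul c)
  obtain ⟨L', hL', ⟨e⟩⟩ := H12Pic.FinKer.exists_extension_of_parafactorial hX U ⟨_, hU⟩ L hL fun x _ h =>
    absurd (h.trans ((H8Props.FlatDimOneBase.ringKrullDim_stalk_le X x).trans hdim)) (by norm_num)
  refine ⟨Additive.ofMul (PicGrp.cls L' hL'), Additive.toMul.injective ?_⟩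
  show PicGrp.pullHom U.ι (H28Vert.pullMul U.ι) (PicGrp.cls L' hL') = Additive.toMul c
  rw [PicGrp.pullHom_cls, hc, PicGrp.cls_eq_cls_iff]
  exact ⟨((Scheme.Modules.restrictFunctorIsoPullback U.ι).app L').symm ≪≫ e⟩

theorem resPic_ker_fg (hX : Pi1.IsNormalScheme X) (hdim : topologicalKrullDim X ≤ 1) (U : X.Opens)
    (hU : genericPoint X ∈ U) : (resPic U).ker.FG := by
  classical
  have hSfin : ((U : Set X)ᶜ).Finite := by
    refine finite_closed_points U.2.isClosed_compl fun x hx => isClosed_of_dim_le_one hdim fun hm => hx ?_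
    rw [← hm (genericPoint X) ((genericPoint_spec X).specializes trivial)]
    exact hU
  haveI := hSfin.to_subtype
  let S := ↥((U : Set X)ᶜ)
  haveI : Finite S := hSfin.to_subtype
  -- a class together with the divisor of a rational section trivializing it on `U`
  let Good : PicLoc.PicSet X → (S → ℤ) → Prop := fun c g =>
    ∃ (L : X.Modules) (hL : PicF.IsInvertible L) (D : X → ℤ), c = PicGrp.cls L hL ∧ H29Ref.HasOrd L D ∧
      (∀ x ∈ U, Order.coheight x = 1 → D x = 0) ∧ (∀ s : S, Order.coheight s.1 = 1 → g s = D s.1) ∧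
      PicGrp.pullHom U.ι (H28Vert.pullMul U.ι) c = 1
  let P₀ : AddSubmonoid (Additive (PicLoc.PicSet X) × (S → ℤ)) :=
    { carrier := {p | Good (Additive.toMul p.1) p.2}
      zero_mem' := ⟨Coh.structureModule X, PicLoc.isInvertible_structureModule X, 0,
        (PicGrp.cls_structureModule_eq_one (Y := X)).symm, H29Ref.hasOrd_structureModule, fun _ _ _ => rfl,
        fun _ _ => rfl, map_one _⟩
      add_mem' := by
        rintro a b ⟨L, hL, D, ha, hD, hD0, hg, hau⟩ ⟨M, hM, E, hb, hE, hE0, hg', hbu⟩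
        refine ⟨CohB1.tensorMod L M, H11Ample.isInvertible_tensor hL hM, fun x => D x + E x, ?_,
          H11PicBlow.hasOrd_tensor hX hL hM hD hE, fun x hx h1 => by simp [hD0 x hx h1, hE0 x hx h1], fun s hs => by
            show a.2 s + b.2 s = _
            rw [hg s hs, hg' s hs], ?_⟩
        · refine Subtype.ext (Eq.trans ?_ (PicGrp.cls_mul_cls_val hL hM))
          show (Additive.toMul a.1 * Additive.toMul b.1).1 = _
          rw [ha, hb]
        · show PicGrp.pullHom U.ι (H28Vert.pullMul U.ι) (Additive.toMul a.1 * Additive.toMul b.1) = 1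
          rw [map_mul, hau, hbu, mul_one] }
  let S₁ : AddSubgroup (Additive (PicLoc.PicSet X) × (S → ℤ)) := AddSubgroup.closure P₀
  have hdiff : ∀ x ∈ S₁, ∃ p ∈ P₀, ∃ q ∈ P₀, x = p - q := fun x hx => by
    induction hx using AddSubgroup.closure_induction with
    | mem x hx => exact ⟨x, hx, 0, P₀.zero_mem, (sub_zero x).symm⟩
    | zero => exact ⟨0, P₀.zero_mem, 0, P₀.zero_mem, (sub_zero 0).symm⟩
    | add x y _ _ hx hy =>
      obtain ⟨p, hp, q, hq, rfl⟩ := hx
      obtain ⟨p', hp', q', hq', rfl⟩ := hy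
      exact ⟨p + p', P₀.add_mem hp hp', q + q', P₀.add_mem hq hq', by abel⟩
    | neg x _ hx =>
      obtain ⟨p, hp, q, hq, rfl⟩ := hx
      exact ⟨q, hq, p, hp, neg_sub p q⟩
  have hinj : ∀ x ∈ S₁, x.2 = 0 → x.1 = 0 := fun x hx h2 => by
    obtain ⟨p, hp, q, hq, rfl⟩ := hdiff x hx
    obtain ⟨L, hL, D, ha, hD, hD0, hg, -⟩ := hp
    obtain ⟨M, hM, E, hb, hE, hE0, hg', -⟩ := hq
    obtain ⟨e⟩ := H11PicBlow.iso_of_hasOrd hX hL hM hD (H11PicBlow.hasOrd_congr hE fun z hz => by
      by_cases hzU : z ∈ U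
      · rw [hD0 z hzU hz, hE0 z hzU hz]
      · have h3 : p.2 ⟨z, hzU⟩ = q.2 ⟨z, hzU⟩ := sub_eq_zero.1 (congrFun h2 ⟨z, hzU⟩)
        rw [hg _ hz, hg' _ hz] at h3
        exact h3.symm)
    show p.1 - q.1 = 0
    rw [sub_eq_zero]
    apply Additive.toMul.injective
    rw [ha, hb, PicGrp.cls_eq_cls_iff]
    exact ⟨e⟩
  have hker : (resPic U).ker = S₁.map (AddMonoidHom.fst _ _) := by
    apply le_antisymm
    · intro c hc
      obtain ⟨L, hL, hLc⟩ := PicGrp.exists_eq_cls (Additive.toMul c)
      have h1 : PicGrp.pullHom U.ι (H28Vert.pullMul U.ι) (PicGrp.cls L hL) = 1 := by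
        rw [← hLc]; exact congrArg Additive.toMul hc
      have h1' := h1
      rw [PicGrp.pullHom_cls, PicGrp.cls_eq_one_iff] at h1'
      obtain ⟨e⟩ := h1'
      obtain ⟨D, hD, hD0⟩ := H11PicBlow.hasOrd_of_trivial hX hL U hU
        ((Scheme.Modules.restrictFunctorIsoPullback U.ι).app L ≪≫ e)
      exact ⟨(c, fun s => D s.1), AddSubgroup.subset_closure ⟨L, hL, D, hLc, hD, hD0, fun _ _ => rfl, hLc ▸ h1⟩, rfl⟩
    · rintro c ⟨x, hx, rfl⟩
      obtain ⟨p, hp, q, hq, rfl⟩ := hdiff x hx
      obtain ⟨L, hL, D, -, -, -, -, hau⟩ := hp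
      obtain ⟨M, hM, E, -, -, -, -, hbu⟩ := hq
      show resPic U (p.1 - q.1) = 0
      rw [map_sub, show resPic U p.1 = 0 from congrArg Additive.ofMul hau,
        show resPic U q.1 = 0 from congrArg Additive.ofMul hbu, sub_zero]
  rw [hker]
  exact fg_of_injective_to_fg S₁ hinj

/-- Finiteness of torsion and cotorsion passes to open parts. -/
theorem nfinite_pic_open (hX : Pi1.IsNormalScheme X) (hdim : topologicalKrullDim X ≤ 1) (U : X.Opens)
    (hU : genericPoint X ∈ U) {n : ℕ} (hn : 0 < n) (h : NFinite (Additive (PicLoc.PicSet X)) n) :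
    NFinite (Additive (PicLoc.PicSet (U : Scheme.{u}))) n :=
  h.of_surjective (resPic U) (resPic_surjective hX hdim U hU) (resPic_ker_fg hX hdim U hU) hn

end Groth.Agent.H05EGA4.EtCl.Fin
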