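import Groth.Agent.H29Jac.Jacobian
import Groth.Agent.H29RR.Degree
import Groth.Agent.H28Vert.VertGroup
import Groth.Agent.H05EGA4.EtCl.Fin.Abelian

/-!
# Torsion and cotorsion of the Picard group of a smooth proper curve
-/

set_option autoImplicit false
set_option linter.style.haveILetI false
set_option linter.unusedSectionVars false
set_option backward.isDefEq.respectTransparency.types false

noncomputable section

universe u

open CategoryTheory CategoryTheory.Limits AlgebraicGeometry Opposite MonoidalCategory CartesianMonoidalCategory MonObj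

namespace Groth.Agent.H05EGA4.EtCl.Fin

attribute [local instance] Groth.Agent.H28Vert.picLaw

open Groth.Agent.H29Jac
open Groth.Agent.H12Pic.PicCurve
open Groth.Agent.H25Theta (Cls cls pull)
open Groth.Agent.H29Ell (jSub)

variable (k : Type u) [Field k] [IsAlgClosed k]

/-- Rational points of an abelian variety are divisible. -/
theorem exists_pow_eq_of_abelian (A : Over (Spec (CommRingCat.of k))) [GrpObj A] [IsCommMonObj A] [IsProper A.hom]
    [Smooth A.hom] [GeometricallyIntegral A.hom] {n : ℕ} (hn : 0 < n) (a : ptObj k ⟶ A) :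
    ∃ b : ptObj k ⟶ A, b ^ n = a := by
  let φ : A ⟶ A := (𝟙 A) ^ n
  haveI := H25AbCube.surjective_pow (A := A) hn
  haveI : JacobsonSpace A.left := LocallyOfFiniteType.jacobsonSpace A.hom
  haveI : IsProper (ptObj k).hom := inferInstanceAs (IsProper (𝟙 _))
  haveI : Subsingleton ↥(ptObj k).left := inferInstanceAs (Subsingleton (PrimeSpectrum k))
  haveI : IsProper a.left := by
    haveI : IsProper (a.left ≫ A.hom) := by rw [Over.w a]; infer_instance
    exact IsProper.of_comp _ A.hom
  let x := a.left (IsLocalRing.closedPoint k)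
  have hx : IsClosed ({x} : Set A.left) := by
    have h := a.left.isClosedMap _ isClosed_univ
    rwa [Set.image_univ, show Set.range a.left = {x} from Set.eq_singleton_iff_unique_mem.2
      ⟨⟨_, rfl⟩, by rintro _ ⟨t, rfl⟩; exact congrArg a.left (Subsingleton.elim t _)⟩] at h
  have hne : (φ.left ⁻¹' {x}).Nonempty := φ.left.surjective x
  obtain ⟨y, hy, hyc⟩ := nonempty_inter_closedPoints hne ((hx.preimage φ.left.continuous).isLocallyClosed)
  let b : ptObj k ⟶ A := Over.homMk (pointOfClosedPoint A.hom y hyc) (pointOfClosedPoint_comp A.hom y hyc)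
  refine ⟨b, ?_⟩
  have h1 : b ≫ φ = b ^ n := by
    show b ≫ (𝟙 A) ^ n = b ^ n
    clear hne hy
    induction n with
    | zero => rw [pow_zero, pow_zero, MonObj.comp_one]
    | succ m ih =>
      rcases Nat.eq_zero_or_pos m with rfl | hm
      · rw [pow_one, pow_one, Category.comp_id]
      · rw [pow_succ, pow_succ, MonObj.comp_mul, Category.comp_id]
        congr 1
        exact ih hm (H25AbCube.surjective_pow (A := A) hm)
  rw [← h1]
  refine Over.OverMorphism.ext (AlgebraicGeometry.ext_of_apply_closedPoint_eq A.hom (Over.w (b ≫ φ)) (Over.w a) ?_)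
  show φ.left (b.left (IsLocalRing.closedPoint k)) = x
  rw [show b.left (IsLocalRing.closedPoint k) = y from pointOfClosedPoint_apply A.hom y hyc _]
  exact hy

variable {k} {X : Scheme.{u}} [X.Over (Spec (CommRingCat.of k))]

/-- The degree zero classes of a smooth proper curve are divisible. -/
theorem exists_tensorPow_iso (hX : Curve.IsSmoothProperCurve k X (X ↘ Spec (CommRingCat.of k))) {n : ℕ} (hn : 0 < n) :
    ∀ L : (PicF.XT (X ↘ Spec (CommRingCat.of k)) (ptObj k)).Modules, PicF.IsInvertible L →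
      (letI : (PicF.XT (X ↘ Spec (CommRingCat.of k)) (ptObj k)).Over (Spec (CommRingCat.of k)) :=
        ⟨PicF.XTproj (X ↘ Spec (CommRingCat.of k)) (ptObj k)⟩
       Curv2.deg k (PicF.XT (X ↘ Spec (CommRingCat.of k)) (ptObj k)) L 1 = 0) →
      ∃ M : (PicF.XT (X ↘ Spec (CommRingCat.of k)) (ptObj k)).Modules, PicF.IsInvertible M ∧
        Nonempty (CohB1.tensorPow M n ≅ L) := by
  intro L hL hdeg
  let f := X ↘ Spec (CommRingCat.of k)
  obtain ⟨hp, hs, hint, hdim⟩ := id hX
  haveI := hp; haveI := hs; haveI := hint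
  haveI : SmoothOfRelativeDimension 1 f := smoothRelDim_curve hX
  obtain ⟨σ, hσ⟩ := exists_section k f hX
  haveI : GeometricallyConnected f := H28NT.geometricallyConnected_of_section f σ hσ
  obtain ⟨P, ξ, huniv, hlfp⟩ := rigRepresentable_curve_lfp hX hσ
  haveI := hlfp
  haveI hlfp0 := locallyOfFinitePresentation_jac f hσ huniv
  letI := commGrpObj f hσ huniv
  let A := jac f hσ huniv
  have hdimf : ∀ s, topologicalKrullDim ↥(f.fiber s) = topologicalKrullDim X := fun s =>
    ((f.fiberHomeo s).trans ((Homeomorph.setCongr (Set.eq_univ_of_forall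
      fun x => Subsingleton.elim (f x) s)).trans (Homeomorph.Set.univ _))).isHomeomorph.topologicalKrullDim_eq
  haveI : GeometricallyIntegral f := geometricallyIntegral_curve f
  haveI : Smooth P.hom := SmoothPic.smooth_pic f (fun s => by rw [hdimf s, hdim]) P _ (isRelPicK f hσ huniv)
  haveI : IsSeparated P.hom := H12Pic.Sep.isSeparated f (isRelPicK f hσ huniv)
  obtain ⟨hjo, hjc⟩ := picZero_openClosed f P _ (isRelPicK f hσ huniv) A _ (isRelPicZeroK f hσ huniv)
    (incl f hσ huniv) (fun T c hc => phi0_incl f hσ huniv T c hc)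
  haveI := hjo; haveI := hjc
  haveI hAs : Smooth A.hom := by rw [← Over.w (incl f hσ huniv)]; infer_instance
  haveI : IsSeparated A.hom := by rw [← Over.w (incl f hσ huniv)]; infer_instance
  haveI : LocallyOfFiniteType A.hom := inferInstance
  obtain ⟨hAp, hAc⟩ := picZero_proper_connected f A _ (isRelPicZeroK f hσ huniv)
  haveI := hAp; haveI := hAc
  haveI hAi : GeometricallyIntegral A.hom := H25AbCube.geometricallyIntegral_of_smooth A
  obtain ⟨_, _, _⟩ := family_facts f (ptObj k)
  let Y := PicF.XT f (ptObj k)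
  letI : Y.Over (Spec (CommRingCat.of k)) := ⟨PicF.XTproj f (ptObj k)⟩
  haveI : IsProper (Y ↘ Spec (CommRingCat.of k)) := ‹IsProper (PicF.XTproj f (ptObj k))›
  haveI : SmoothOfRelativeDimension 1 (Y ↘ Spec (CommRingCat.of k)) :=
    ‹SmoothOfRelativeDimension 1 (PicF.XTproj f (ptObj k))›
  haveI : GeometricallyConnected (Y ↘ Spec (CommRingCat.of k)) :=
    ‹GeometricallyConnected (PicF.XTproj f (ptObj k))›
  obtain ⟨hYi, hYd⟩ := curve_facts k Y
  haveI := hYi
  have hz : AbDual.IsPicZeroCl f (ptObj k) (PicF.cl L) := by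
    refine (isPicZeroCl_iff_degAt f (ptObj k) hL).2 fun t => ?_
    have hrk : ∀ {F : Y.Modules}, PicF.IsInvertible F →
        rankDiff (PicF.XTproj f (ptObj k)) F t = Curv2.euler k Y F := fun {F} hF => by
      rw [rankDiff, H29RR.euler_eq_sub (k := k) hYd.le]
      exact congrArg₂ (fun a b : ℕ => (a : ℤ) - b)
        (H10Coh.Growth.fiberRank_field (k := k) (X := Y) (H11Ample.isCoh_of_isInvertible hF) 0 t)
        (H10Coh.Growth.fiberRank_field (k := k) (X := Y) (H11Ample.isCoh_of_isInvertible hF) 1 t)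
    rw [degAt, hrk hL, hrk H11Ample.isInvertible_structureModule, ← H29RR.deg_def]
    exact hdeg
  have hu : IsUnit (cls L) := isInvertibleCl_isUnit ⟨L, rfl, hL⟩
  have hrig : pull (PicF.secT f σ hσ (ptObj k)) hu.unit.1 = 1 := by
    haveI : Subsingleton ↥(ptObj k).left := inferInstanceAs (Subsingleton (PrimeSpectrum k))
    haveI : Nonempty ↥(ptObj k).left := inferInstanceAs (Nonempty (PrimeSpectrum k))
    rw [IsUnit.unit_spec]
    exact Quot.sound (H25Theta.nonempty_iso_of_subsingleton
      (H11Ample.isInvertible_pullback (PicF.secT f σ hσ (ptObj k)) hL))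
  let u : jSub f σ hσ (ptObj k) := ⟨hu.unit, ⟨⟨L, rfl, hL⟩, hrig⟩, hz⟩
  obtain ⟨b, hb⟩ := exists_pow_eq_of_abelian k A hn ((jMulEquiv f hσ huniv (ptObj k)).symm u)
  obtain ⟨M, hM, hMi⟩ := id ((jMulEquiv f hσ huniv (ptObj k)) b).2.1.1
  refine ⟨M, hMi, H25Theta.cls_eq.1 ?_⟩
  rw [H25Theta.cls_pow, show cls M = ((jMulEquiv f hσ huniv (ptObj k)) b).1.1 from hM]
  have h1 : ((jMulEquiv f hσ huniv (ptObj k)) b) ^ n = u := by
    rw [← map_pow, hb, MulEquiv.apply_symm_apply]
  exact congrArg (fun w => w.1.1) h1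

/-- The Picard group of a smooth proper curve over an algebraically closed field has finite `n`-torsion and
`n`-cotorsion. -/
theorem nfinite_pic_proper (hX : Curve.IsSmoothProperCurve k X (X ↘ Spec (CommRingCat.of k))) {n : ℕ}
    (hnk : (n : k) ≠ 0) : NFinite (Additive (PicLoc.PicSet X)) n := by
  classical
  have hn : 0 < n := Nat.pos_of_ne_zero fun h => hnk (by rw [h, Nat.cast_zero])
  let f := X ↘ Spec (CommRingCat.of k)
  obtain ⟨hp, hs, hint, hdim⟩ := id hX
  haveI := hp; haveI := hs; haveI := hint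
  refine ⟨?_, ?_⟩
  · haveI : Finite {c : PicF.Cl X | ∃ M : Scheme.Modules X, PicF.cl M = c ∧ PicF.IsInvertible M ∧
        Nonempty (CohB1.tensorPow M n ≅ Coh.structureModule X)} := by
      refine Nat.finite_of_card_ne_zero ?_
      rw [card_pic_torsion k hX hnk]
      exact pow_ne_zero _ (by omega)
    refine Finite.of_injective (fun c : (nsmulAddMonoidHom n : Additive (PicLoc.PicSet X) →+ _).ker =>
      (⟨(Additive.toMul c.1).1, ?_⟩ : {c : PicF.Cl X | ∃ M : Scheme.Modules X, PicF.cl M = c ∧ PicF.IsInvertible M ∧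
        Nonempty (CohB1.tensorPow M n ≅ Coh.structureModule X)})) fun a b h => ?_
    · obtain ⟨M, hM, hMc⟩ := PicGrp.exists_eq_cls (Additive.toMul c.1)
      refine ⟨M, (congrArg Subtype.val hMc).symm, hM, (PicGrp.cl_eq_cl_iff _ _).1 ?_⟩
      rw [← PicGrp.cls_pow_val hM n, ← hMc, ← toMul_nsmul, show n • c.1 = 0 from c.2, toMul_zero, PicGrp.one_val]
    · refine Subtype.ext (Additive.toMul.injective (Subtype.ext ?_))
      have h2 := Subtype.ext_iff.1 h
      exact h2
  · haveI : SmoothOfRelativeDimension 1 f := smoothRelDim_curve hX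
    obtain ⟨σ, hσ⟩ := exists_section k f hX
    haveI : GeometricallyConnected f := H28NT.geometricallyConnected_of_section f σ hσ
    obtain ⟨_, _, _⟩ := family_facts f (ptObj k)
    let Y := PicF.XT f (ptObj k)
    letI : Y.Over (Spec (CommRingCat.of k)) := ⟨PicF.XTproj f (ptObj k)⟩
    haveI : IsProper (Y ↘ Spec (CommRingCat.of k)) := ‹IsProper (PicF.XTproj f (ptObj k))›
    haveI : SmoothOfRelativeDimension 1 (Y ↘ Spec (CommRingCat.of k)) :=
      ‹SmoothOfRelativeDimension 1 (PicF.XTproj f (ptObj k))›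
    haveI : GeometricallyConnected (Y ↘ Spec (CommRingCat.of k)) :=
      ‹GeometricallyConnected (PicF.XTproj f (ptObj k))›
    obtain ⟨hYi, hYd⟩ := curve_facts k Y
    haveI := hYi
    let q : Y ⟶ X := pullback.fst f (ptObj k).hom
    choose mod hmod hmodc using fun c : PicLoc.PicSet Y => PicGrp.exists_eq_cls c
    have hd : ∀ {L : Y.Modules} (hL : PicF.IsInvertible L),
        Curv2.deg k Y (mod (PicGrp.cls L hL)) 1 = Curv2.deg k Y L 1 := fun {L} hL => by
      obtain ⟨e⟩ := (PicGrp.cls_eq_cls_iff _ hL).1 (hmodc (PicGrp.cls L hL)).symm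
      exact H29RR.deg_congr (k := k) e
    let δ : Additive (PicLoc.PicSet Y) →+ ℤ := AddMonoidHom.mk' (fun c => Curv2.deg k Y (mod (Additive.toMul c)) 1)
      fun a b => by
        have h := hd (H11Ample.isInvertible_tensor (hmod (Additive.toMul a)) (hmod (Additive.toMul b)))
        rw [H29RR.deg_tensor (k := k) hYd.le (hmod _) (hmod _)] at h
        rw [← h]
        refine congrArg (fun c => Curv2.deg k Y (mod c) 1) (Subtype.ext ?_)
        refine Eq.trans ?_ (PicGrp.cls_mul_cls_val (hmod (Additive.toMul a)) (hmod (Additive.toMul b)))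
        rw [← hmodc, ← hmodc]
        rfl
    haveI : Finite (Additive (PicLoc.PicSet Y) ⧸
        (nsmulAddMonoidHom n : Additive (PicLoc.PicSet Y) →+ _).range) := by
      refine finite_quot_of_divisible_ker δ n hn fun c hc => ?_
      obtain ⟨M, hMi, ⟨e⟩⟩ := exists_tensorPow_iso hX hn (mod (Additive.toMul c)) (hmod _) hc
      refine ⟨Additive.ofMul (PicGrp.cls M hMi), ?_⟩
      apply Additive.toMul.injective
      rw [toMul_nsmul, toMul_ofMul, hmodc (Additive.toMul c)]
      refine Subtype.ext ?_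
      rw [PicGrp.cls_pow_val hMi n, PicGrp.cls_val]
      exact (PicGrp.cl_eq_cl_iff _ _).2 ⟨e⟩
    let ψ : Additive (PicLoc.PicSet Y) →+ Additive (PicLoc.PicSet X) :=
      MonoidHom.toAdditive (PicGrp.pullHom (inv q) (H28Vert.pullMul (inv q)))
    have hψ : Function.Surjective ψ := fun c => by
      refine ⟨MonoidHom.toAdditive (PicGrp.pullHom q (H28Vert.pullMul q)) c, ?_⟩
      apply Additive.toMul.injective
      show PicGrp.pullHom (inv q) (H28Vert.pullMul (inv q)) (PicGrp.pullHom q (H28Vert.pullMul q) (Additive.toMul c)) =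
        Additive.toMul c
      rw [← PicGrp.pullHom_comp_apply (inv q) q _ _ (H28Vert.pullMul _)]
      refine Subtype.ext ?_
      rw [PicGrp.pullHom_apply_val, IsIso.inv_hom_id, PicLoc.pullCl_id]
    refine Finite.of_surjective (QuotientAddGroup.map (nsmulAddMonoidHom n : Additive (PicLoc.PicSet Y) →+ _).range
      (nsmulAddMonoidHom n : Additive (PicLoc.PicSet X) →+ _).range ψ fun a ha => by
        obtain ⟨c, hc⟩ := AddMonoidHom.mem_range.1 ha
        exact AddSubgroup.mem_comap.2 (AddMonoidHom.mem_range.2 ⟨ψ c, by rw [← hc]; exact (map_nsmul ψ n c).symm⟩))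
      fun b => ?_
    induction b using QuotientAddGroup.induction_on with
    | H b =>
      obtain ⟨a, rfl⟩ := hψ b
      exact ⟨QuotientAddGroup.mk a, rfl⟩

end Groth.Agent.H05EGA4.EtCl.Fin
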