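import Groth.Agent.H05EGA4.EtCl.Fin.PicOpen
import Groth.Agent.H26CDiv.Generization
import Groth.Agent.H29Ref.DualStalk

/-!
# Principal divisors of units on an open part of a normal scheme
-/

set_option autoImplicit false
set_option linter.style.haveILetI false
set_option linter.unusedSectionVars false
set_option backward.isDefEq.respectTransparency.types false

universe u

open CategoryTheory CategoryTheory.Limits AlgebraicGeometry Opposite TopologicalSpace

namespace Groth.Agent.H05EGA4.EtCl.Fin

open Groth.Agent.H29Ref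

variable {X : Scheme.{u}} [IsIntegral X] [AlgebraicGeometry.IsNoetherian X]

theorem isStalkGen_oneStalk (x : X) : IsStalkGen (Coh.structureModule X) x (oneStalk x) := by
  refine IsStalkGen.mk' ⟨(Module.Basis.singleton (Fin 1) _).map (unitEquiv _)⟩ (eq_top_iff.mpr fun v _ => ?_) (by
    rw [sp_oneStalk]; exact oneStalk_ne_zero _)
  obtain ⟨r, rfl⟩ := (bijective_smul_oneStalk x).2 v
  exact Submodule.smul_mem _ _ (Submodule.mem_span_singleton_self _)

/-- The rational section of the structure sheaf given by a rational function. -/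
noncomputable def ratFn (φ : X.functionField) : (Coh.structureModule X).presheaf.stalk (genericPoint X) :=
  (φ : X.presheaf.stalk (genericPoint X)) • oneStalk (genericPoint X)

theorem ratFn_ne_zero {φ : X.functionField} (hφ : φ ≠ 0) : ratFn φ ≠ 0 := fun h =>
  hφ ((bijective_smul_oneStalk (genericPoint X)).1 (show (φ : X.presheaf.stalk (genericPoint X)) • oneStalk _ =
    (0 : X.presheaf.stalk (genericPoint X)) • oneStalk (genericPoint X) by rw [zero_smul]; exact h))

theorem exists_ratFn_eq (v : (Coh.structureModule X).presheaf.stalk (genericPoint X)) :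
    ∃ φ : X.functionField, ratFn φ = v := (bijective_smul_oneStalk (genericPoint X)).2 v

theorem secO_ratFn {φ : X.functionField} (hφ : φ ≠ 0) {x : X} (hx : Order.coheight x = 1) :
    secO (Coh.structureModule X) x (ratFn φ) = Scheme.ord φ x :=
  secO_eq hx (isStalkGen_oneStalk x) (ratFn_ne_zero hφ) (by rw [sp_oneStalk]; rfl)

/-- A rational function without zeros and poles on an open is a unit there. -/
theorem exists_unit_germ (hX : Pi1.IsNormalScheme X) (U : X.Opens) (hη : genericPoint X ∈ U) {φ : X.functionField}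
    (hφ : φ ≠ 0) (h : ∀ x ∈ U, Order.coheight x = 1 → Scheme.ord φ x = 0) :
    ∃ u : Γ(X, U)ˣ, (X.presheaf.germ U (genericPoint X) hη (u : Γ(X, U)) : X.functionField) = φ := by
  have key : ∀ ψ : X.functionField, ψ ≠ 0 → (∀ x ∈ U, Order.coheight x = 1 → 0 ≤ Scheme.ord ψ x) →
      ∃ a : Γ(X, U), (X.presheaf.germ U (genericPoint X) hη a : X.functionField) = ψ := by
    intro ψ hψ hψ0
    have hc := H10Coh.isCoh_structureModule' X
    obtain ⟨s, hs⟩ := exists_section hX (Coh.structureModule X) hc isRef1_structureModule.2.1 U hη (ratFn ψ)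
      fun x hx h1 => by
        have h1' : Order.coheight x = 1 := by
          rw [ringKrullDim_stalk_eq_coheight] at h1
          exact WithBot.coe_injective h1
        obtain ⟨a, ha⟩ := (H26CDiv.ord_nonneg_iff_reg (fun z => (hX z).2) h1' hψ).1 (hψ0 x hx h1')
        refine ⟨a • oneStalk x, ?_⟩
        rw [sp_smul, sp_oneStalk]
        exact congrArg (fun t : X.presheaf.stalk (genericPoint X) => t • oneStalk (genericPoint X)) ha
    refine ⟨(s : Γ(X, U)), (bijective_smul_oneStalk (genericPoint X)).1 ?_⟩
    refine Eq.trans ?_ hs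
    exact (germ_unit_eq_smul (genericPoint X) hη (s : Γ(X, U))).symm
  have hone : ∀ x : X, Scheme.ord (1 : X.functionField) x = 0 := fun x => by
    have h6 := ord_unit (X := X) (x := x) isUnit_one
    rw [map_one] at h6
    exact h6
  obtain ⟨a, ha⟩ := key φ hφ fun x hx h1 => (h x hx h1).ge
  obtain ⟨b, hb⟩ := key φ⁻¹ (inv_ne_zero hφ) fun x hx h1 => by
    have hmul := Scheme.ord_mul (x := x) hφ (inv_ne_zero hφ)
    rw [mul_inv_cancel₀ hφ, hone] at hmul
    have := h x hx h1
    omega
  have hab : a * b = 1 := germ_injective_of_isIntegral X (genericPoint X) hη (by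
    rw [map_mul, map_one]
    exact (congrArg₂ (fun p q : X.functionField => p * q) ha hb).trans (mul_inv_cancel₀ hφ))
  exact ⟨⟨a, b, hab, by rw [mul_comm]; exact hab⟩, ha⟩

theorem ord_germ_unit (U : X.Opens) (hη : genericPoint X ∈ U) (u : Γ(X, U)ˣ) {x : X} (hx : x ∈ U) :
    Scheme.ord (X.presheaf.germ U (genericPoint X) hη (u : Γ(X, U)) : X.functionField) x = 0 := by
  have h := ord_unit (X := X) (x := x) (u.isUnit.map (X.presheaf.germ U x hx).hom)
  rw [spO_germ] at h
  exact h

end Groth.Agent.H05EGA4.EtCl.Fin
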