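import Groth.Agent.H05EGA4.EtCl.Fin.PicProper
import Groth.Agent.H05EGA4.EtCl.Fin.PicOpen
import Groth.Agent.H05EGA4.EtCl.Fin.Completion
import Groth.Agent.H05EGA4.EtCl.Fin.Birational
import Groth.Agent.H05EGA4.EtCl.CurveGm
import Groth.Agent.H05EGA4.EtCl.CurveTorsApps
import Groth.Agent.H29Curve.UnitsModConstScheme
import Groth.Agent.H05EGA4.EtH90.Pic
import Groth.Agent.H18Et.MuConst
import Groth.Agent.S0108
import Groth.Prelude.Def_SixF3

/-!
# Finiteness of the cohomology of `ℤ/n` on smooth curves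
-/

set_option autoImplicit false
set_option linter.style.haveILetI false
set_option linter.unusedSectionVars false
set_option backward.isDefEq.respectTransparency.types false

universe u

open CategoryTheory CategoryTheory.Limits AlgebraicGeometry Opposite Abelian

namespace Groth.Agent.H05EGA4.EtCl.Fin

open scoped Groth.Agent.H18Et

attribute [local instance] Groth.Agent.H28Vert.picLaw

/-- Exactness with a map killing the `n`-th multiples. -/
theorem finite_of_exact_mod {A B C : Type*} [AddCommGroup A] [AddCommGroup B] [AddCommGroup C] (n : ℕ) (δ : A →+ B)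
    (g : B →+ C) (hδ : ∀ a, δ (n • a) = 0) (hA : Finite (A ⧸ (nsmulAddMonoidHom n : A →+ A).range))
    (hC : Finite C) (hex : ∀ b, g b = 0 → ∃ a, δ a = b) : Finite B := by
  haveI := hA; haveI := hC
  refine finite_of_exact (QuotientAddGroup.lift (nsmulAddMonoidHom n : A →+ A).range δ fun a ha => ?_) g fun b hb => ?_
  · obtain ⟨c, rfl⟩ := AddMonoidHom.mem_range.1 ha
    exact hδ c
  · obtain ⟨a, ha⟩ := hex b hb
    exact ⟨QuotientAddGroup.mk a, ha⟩

variable {k : Type u} [Field k] [IsAlgClosed k] {W : Scheme.{u}} (h : W ⟶ Spec (CommRingCat.of k))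

/-- Picard group of a smooth curve. -/
theorem nfinite_pic_curve [Smooth h] [IsSeparated h] [QuasiCompact h] [IsIntegral W]
    (hdim : topologicalKrullDim W = 1) {n : ℕ} (hnk : (n : k) ≠ 0) : NFinite (Additive (PicLoc.PicSet W)) n := by
  obtain ⟨Xb, q, U, e, hXb, hint, hN, hnorm, hUne⟩ := exists_smooth_completion h hdim
  haveI := hint; haveI := hN
  letI : Xb.Over (Spec (CommRingCat.of k)) := ⟨q⟩
  have hn : 0 < n := Nat.pos_of_ne_zero fun h0 => hnk (by rw [h0, Nat.cast_zero])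
  have hd := hXb.2.2.2
  obtain ⟨x, hx⟩ := hUne
  have hU : genericPoint Xb ∈ U := ((genericPoint_spec Xb).specializes trivial).mem_open U.2 hx
  refine (nfinite_pic_open hnorm hd.le U hU hn (nfinite_pic_proper hXb hnk)).congr ?_ hn
  let a := PicGrp.pullHom e.hom (H28Vert.pullMul e.hom)
  let b := PicGrp.pullHom e.inv (H28Vert.pullMul e.inv)
  refine MulEquiv.toAdditive ({ a with invFun := b, left_inv := fun c => ?_, right_inv := fun c => ?_ } : _ ≃* _)
  · show b (a c) = c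
    rw [← PicGrp.pullHom_comp_apply _ _ _ _ (H28Vert.pullMul _)]
    exact Subtype.ext (by rw [PicGrp.pullHom_apply_val, e.inv_hom_id, PicLoc.pullCl_id])
  · show a (b c) = c
    rw [← PicGrp.pullHom_comp_apply _ _ _ _ (H28Vert.pullMul _)]
    exact Subtype.ext (by rw [PicGrp.pullHom_apply_val, e.hom_inv_id, PicLoc.pullCl_id])

/-- Global units modulo `n`-th powers. -/
theorem finite_units_quot [LocallyOfFiniteType h] [QuasiCompact h] [IsIntegral W] {n : ℕ} (hn : 0 < n) :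
    Finite (Additive Γ(W, ⊤)ˣ ⧸ (nsmulAddMonoidHom n : Additive Γ(W, ⊤)ˣ →+ _).range) := by
  haveI : IsLocallyNoetherian W := LocallyOfFiniteType.isLocallyNoetherian h
  haveI : CompactSpace W := QuasiCompact.compactSpace_of_compactSpace h
  haveI : AlgebraicGeometry.IsNoetherian W := {}
  obtain ⟨J, hJ, φ, hφ⟩ := H29Curve.exists_units_addHom_scheme k h
    TopologicalSpace.NoetherianSpace.finite_irreducibleComponents
  haveI := hJ
  haveI : IsDomain Γ(W, ⊤) := inferInstance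
  let c := ((Scheme.ΓSpecIso (CommRingCat.of k)).inv ≫ h.appTop).hom
  refine finite_quot_of_divisible_ker φ n hn fun a ha => ?_
  letI : Algebra k Γ(W, ⊤) := RingHom.toAlgebra c
  have hint : c.IsIntegralElem (Additive.toMul a : Γ(W, ⊤)ˣ).1 := (hφ (Additive.toMul a)).1 ha
  obtain ⟨x, hx⟩ : ∃ x : k, c x = (Additive.toMul a : Γ(W, ⊤)ˣ).1 := by
    let A := integralClosure k Γ(W, ⊤)
    haveI : Algebra.IsIntegral k A := inferInstance
    obtain ⟨x, hx⟩ := (IsAlgClosed.algebraMap_bijective_of_isIntegral (k := k) (K := A)).2 ⟨_, hint⟩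
    exact ⟨x, congrArg Subtype.val hx⟩
  obtain ⟨y, hy⟩ := IsAlgClosed.exists_pow_nat_eq x hn
  have hu : IsUnit (c y) := (isUnit_pow_iff hn.ne').1 (by
    rw [← map_pow, hy, hx]; exact (Additive.toMul a : Γ(W, ⊤)ˣ).isUnit)
  refine ⟨Additive.ofMul hu.unit, Additive.toMul.injective (Units.ext ?_)⟩
  rw [toMul_nsmul, toMul_ofMul, Units.val_pow_eq_pow_val, IsUnit.unit_spec, ← map_pow, hy, hx]

theorem hpw' {Y : Scheme.{u}} (n i : ℕ) (y : EtCoh.H Y (EtCoh.Gm Y) i) :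
    y.comp (Ext.mk₀ (EtCoh.powMap Y n)) (add_zero i) = n • y := by
  rw [EtCoh.powMap, show Ext.mk₀ (n • 𝟙 (EtCoh.Gm Y)) = n • Ext.mk₀ (𝟙 (EtCoh.Gm Y)) from
      map_nsmul Ext.addEquiv₀.symm _ _,
    ← Ext.bilinearComp_apply_apply (h := add_zero i), map_nsmul, Ext.bilinearComp_apply_apply, Ext.comp_mk₀_id]

theorem delta_nsmul {Y : Scheme.{u}} {n : ℕ} (hS : (EtSix.kummerSC Y n).ShortExact) {i j : ℕ} (hij : i + 1 = j)
    (y : EtCoh.H Y (EtCoh.Gm Y) i) : (n • y).comp hS.extClass hij = 0 := by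
  rw [← hpw' n i y]
  refine (Ext.comp_assoc y (Ext.mk₀ (EtSix.kummerSC Y n).g) hS.extClass (add_zero i) (zero_add 1) (by omega)).trans ?_
  exact (congrArg (fun w => Ext.comp y w hij) hS.comp_extClass).trans (Ext.comp_zero _ _ _ _ _)

theorem muι_comp_nsmul {Y : Scheme.{u}} (n i : ℕ) (x : EtCoh.H Y (EtCoh.mu Y n) i) :
    n • x.comp (Ext.mk₀ (EtCoh.muι Y n)) (add_zero i) = 0 := by
  rw [← hpw' n i]
  refine (Ext.comp_assoc _ _ _ (add_zero i) (add_zero 0) (by omega)).trans ?_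
  rw [Ext.mk₀_comp_mk₀, show EtCoh.muι Y n ≫ EtCoh.powMap Y n = 0 from kernel.condition _]
  simp

theorem finite_H_two_mu {Y : Scheme.{u}} {n : ℕ} (hS : (EtSix.kummerSC Y n).ShortExact)
    (hq : Finite (EtCoh.H Y (EtCoh.Gm Y) 1 ⧸ (nsmulAddMonoidHom n : EtCoh.H Y (EtCoh.Gm Y) 1 →+ _).range))
    (h2 : Subsingleton (EtCoh.H Y (EtCoh.Gm Y) 2)) : Finite (EtCoh.H Y (EtCoh.mu Y n) 2) :=
  finite_of_exact_mod n (hS.extClass.postcomp _ (rfl : 1 + 1 = 2)) ((Ext.mk₀ (EtCoh.muι Y n)).postcomp _ (add_zero 2))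
    (fun y => delta_nsmul hS (rfl : 1 + 1 = 2) y) hq inferInstance fun b hb =>
      Ext.covariant_sequence_exact₁ _ hS b hb (rfl : 1 + 1 = 2)

theorem finite_H_one_mu {Y : Scheme.{u}} {n : ℕ} (hS : (EtSix.kummerSC Y n).ShortExact)
    (hu : Finite (Additive Γ(Y, ⊤)ˣ ⧸ (nsmulAddMonoidHom n : Additive Γ(Y, ⊤)ˣ →+ _).range))
    (ht : Finite (nsmulAddMonoidHom n : EtCoh.H Y (EtCoh.Gm Y) 1 →+ _).ker) :
    Finite (EtCoh.H Y (EtCoh.mu Y n) 1) := by
  let σ : Additive Γ(Y, ⊤)ˣ →+ EtCoh.H Y (EtCoh.Gm Y) 0 :=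
    (Sheaf.H.equiv₀ (EtCoh.Gm Y) (EtCore.topIsTerminal Y)).symm.toAddMonoidHom.comp (AddMonoidHom.mk'
      (fun a : Additive Γ(Y, ⊤)ˣ => Groth.Agent.H18Et.MuConst.sec (U := EtCoh.top Y) (Additive.toMul a))
      fun a b => rfl)
  let δ : Additive Γ(Y, ⊤)ˣ →+ EtCoh.H Y (EtCoh.mu Y n) 1 := ((hS.extClass.postcomp _ (zero_add 1))).comp σ
  let g : EtCoh.H Y (EtCoh.mu Y n) 1 →+ (nsmulAddMonoidHom n : EtCoh.H Y (EtCoh.Gm Y) 1 →+ _).ker :=
    ((Ext.mk₀ (EtCoh.muι Y n)).postcomp _ (add_zero 1)).codRestrict _ fun x => muι_comp_nsmul n 1 x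
  refine finite_of_exact_mod n δ g (fun a => ?_) hu ht fun b hb => ?_
  · show (σ (n • a)).comp hS.extClass (zero_add 1) = 0
    rw [map_nsmul σ]
    exact delta_nsmul hS (zero_add 1) (σ a)
  · obtain ⟨y, hy⟩ := Ext.covariant_sequence_exact₁ _ hS b (congrArg Subtype.val hb) (zero_add 1)
    obtain ⟨v, hv⟩ := Groth.Agent.H18Et.MuConst.sec_surjective ((Sheaf.H.equiv₀ (EtCoh.Gm Y) (EtCore.topIsTerminal Y)) y)
    refine ⟨Additive.ofMul (show Γ(Y, ⊤)ˣ from v), ?_⟩
    rw [← hy]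
    show ((Sheaf.H.equiv₀ (EtCoh.Gm Y) (EtCore.topIsTerminal Y)).symm (Groth.Agent.H18Et.MuConst.sec v)).comp
      hS.extClass (zero_add 1) = _
    rw [hv, AddEquiv.symm_apply_apply]
    rfl

theorem finite_H_zero_mu {Y : Scheme.{u}} [IsIntegral Y] {n : ℕ} (hn : 0 < n) : Finite (EtCoh.H Y (EtCoh.mu Y n) 0) := by
  -- roots of unity in a domain
  let ι₀ := fun x : EtCoh.H Y (EtCoh.mu Y n) 0 =>
    (EtCoh.muι Y n).hom.app (op (EtCoh.top Y)) (Sheaf.H.equiv₀ _ (EtCore.topIsTerminal Y) x)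
  choose v hv using fun x => Groth.Agent.H18Et.MuConst.sec_surjective (ι₀ x)
  haveI : NeZero n := ⟨hn.ne'⟩
  have hpow : ∀ x, v x ∈ rootsOfUnity n Γ((EtCoh.top Y).left, ⊤) := fun x => by
    rw [mem_rootsOfUnity]
    refine Groth.Agent.H18Et.MuConst.sec_injective (U := EtCoh.top Y) ?_
    rw [← Groth.Agent.H18Et.MuConst.nsmul_sec, hv, Groth.Agent.H18Et.MuConst.nsmul_muι]
    rfl
  haveI : IsDomain Γ((EtCoh.top Y).left, ⊤) := inferInstanceAs (IsDomain Γ(Y, ⊤))
  refine Finite.of_injective (fun x => (⟨v x, hpow x⟩ : rootsOfUnity n Γ((EtCoh.top Y).left, ⊤))) fun a b hab => ?_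
  refine (Sheaf.H.equiv₀ (EtCoh.mu Y n) (EtCore.topIsTerminal Y)).injective
    (Groth.Agent.H18Et.MuConst.muι_injective n _ ?_)
  show ι₀ a = ι₀ b
  rw [← hv, ← hv, show v a = v b from congrArg Subtype.val hab]

include h

/-- Finiteness of the cohomology of `ℤ/n` on a smooth integral curve, `n` invertible. -/
theorem finite_H_const_smooth_curve [Smooth h] [IsSeparated h] [QuasiCompact h] [IsIntegral W]
    (hdim : topologicalKrullDim W = 1) {n : ℕ} [NeZero n] (hnk : (n : k) ≠ 0) (q : ℕ) :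
    Finite (EtCoh.H W (EtCoh.const W (ZMod n)) q) := by
  haveI : IsLocallyNoetherian W := LocallyOfFiniteType.isLocallyNoetherian h
  haveI : CompactSpace W := QuasiCompact.compactSpace_of_compactSpace h
  haveI : AlgebraicGeometry.IsNoetherian W := {}
  have hn : 0 < n := Nat.pos_of_ne_zero (NeZero.ne n)
  let φ : CommRingCat.of k ⟶ Γ(W, ⊤) := (Scheme.ΓSpecIso (CommRingCat.of k)).inv ≫ h.appTop
  have hu : IsUnit (n : Γ(W, ⊤)) := by
    have h' := (isUnit_iff_ne_zero.2 hnk).map φ.hom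
    rwa [map_natCast] at h'
  haveI : NeZero (n : k) := ⟨hnk⟩
  obtain ⟨ζ, hζ⟩ := HasEnoughRootsOfUnity.exists_primitiveRoot k n
  have hζ' : Polynomial.aeval (φ.hom ζ) (Polynomial.cyclotomic n ℤ) = 0 := by
    rw [show Polynomial.aeval (φ.hom ζ) (Polynomial.cyclotomic n ℤ) =
      φ.hom.toIntAlgHom (Polynomial.aeval ζ (Polynomial.cyclotomic n ℤ)) from
      Polynomial.aeval_algHom_apply φ.hom.toIntAlgHom ζ _]
    have h' := hζ.isRoot_cyclotomic (R := k) hn
    rw [← Polynomial.map_cyclotomic n (Int.castRingHom k), Polynomial.IsRoot.def, Polynomial.eval_map] at h'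
    rw [show Polynomial.aeval ζ (Polynomial.cyclotomic n ℤ) = 0 from h', map_zero]
  obtain ⟨eμ⟩ := Groth.Agent.H18Et.MuConst.nonempty_iso hn hu (φ.hom ζ) hζ'
  refine finite_H_of_iso eμ.symm q ?_
  have hS := EtSix.kummerShortExact (Groth.Agent.S0108.result W n hu)
  obtain ⟨eP⟩ := Groth.Agent.H05EGA4.EtH90.nonempty_addEquiv W
  obtain ⟨hPt, hPq⟩ := (nfinite_pic_curve h hdim hnk).congr eP hn
  match q with
  | 0 => exact finite_H_zero_mu hn
  | 1 => exact finite_H_one_mu hS (finite_units_quot h hn) hPt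
  | 2 => exact finite_H_two_mu hS hPq (subsingleton_H_Gm_curve h hdim.le 0)
  | (m + 3) =>
    have hk : n • 𝟙 (EtCoh.mu W n) = 0 := by
      haveI : Mono (EtCoh.muι W n) := inferInstanceAs (Mono (kernel.ι _))
      rw [← cancel_mono (EtCoh.muι W n), zero_comp, Preadditive.nsmul_comp, Category.id_comp]
      have := kernel.condition (EtCoh.powMap W n)
      rwa [EtCoh.powMap, Preadditive.comp_nsmul, Category.comp_id] at this
    haveI := subsingleton_H_torsion_curve h hdim.le (EtCoh.mu W n) (fun V s x => ⟨V, 𝟙 V, ⟨x, rfl⟩,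
      isOfFinAddOrder_iff_nsmul_eq_zero.2 ⟨n, hn, H9GalCoh.Dev.killedBy_of_nsmul hk V _⟩⟩) m
    infer_instance

end Groth.Agent.H05EGA4.EtCl.Fin
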